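import Cfsg.Agent.LV.F4.Kill
import Cfsg.Agent.LV.Blk.Cub
import Cfsg.Agent.LV.Lab.One

/-!
# LV: height zero from the norms of the labels and the cubic identity (helper84)

`hz_of_cub` (any datum, `l = 5`), `others_zero`.
-/

set_option autoImplicit false
set_option linter.unusedSectionVars false
set_option maxHeartbeats 400000

namespace Cfsg.Agent.LV.F4

open Cfsg Cfsg.Agent.DL Cfsg.Agent.DL.PP Cfsg.Agent.KZ.Lie Cfsg.Agent.LV.Blk Cfsg.Agent.LV.Lab Cfsg.Agent.Characters.Core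
  Cfsg.Agent.Blocks Cfsg.Agent.Blocks.Local

variable {p : ℕ} [Fact p.Prime] {k : Type} [Field k] [CharP k p] {Y : Type} [Group Y] {N : Type} [Fintype N]
  [DecidableEq N] {ρ : Y →* GL N k} {F : MulAut Y} {G : Subgroup Y} [IsAlgClosed k] {D : Datum p ρ F G}
  {M : Ideal AlgInt} [Fintype ↥(GF F G)] (f : Fr D)

/-- a character which meets a label `c ≠ 1` of `l`-power order meets no other orbit -/
theorem others_zero {l : ℕ} {a : ℝ} (ha : 1 / 2 < a) {χ : ↥(GF F G) → ℂ} (hχ : IsIrrCharacter _ χ)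
    (hL : ∀ c, IsL l c → c ≠ 1 → nr f χ c = 0 ∨ a ≤ nr f χ c) (hU : nr f χ 1 = 0 ∨ 1 - a < nr f χ 1) {c : Lbl D}
    (hc : IsL l c) (h1 : c ≠ 1) (h0 : nr f χ c ≠ 0) {b : Lbl D} (hb : IsL l b) (hn : ¬ Cj D c b) : nr f χ b = 0 := by
  have h2 := (hL c hc h1).resolve_left h0
  have h3 := nr_add_le f hχ hn
  by_cases e : b = 1
  · subst e
    exact hU.resolve_right fun h => by linarith
  · exact (hL b hb e).resolve_right fun h => by linarith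

/-- **Height zero** for `l = 5`.  `r i` (`i < n`) are representatives of the types of tori, `r t₀` is a Sylow torus;
`bad` is the list of the possible multiplicity vectors with `5 ∣ m`, up to sign. -/
theorem hz_of_cub (hM : IsPModular 5 M) (hp : 5 ≠ p) {r : ℕ → D.W} {n t₀ : ℕ} (ht : t₀ < n) (hS : SylT D 5 (r t₀))
    (hcl : ∀ u, ∃ i < n, ∃ v, Tc D v u (r i)) {a : ℝ} (ha : 1 / 2 < a)
    (hL : ∀ (χ : IrrCharacter ↥(GF F G)) c, IsL 5 c → c ≠ 1 → nr f χ.1 c = 0 ∨ a ≤ nr f χ.1 c)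
    (hU : ∀ χ : IrrCharacter ↥(GF F G), nr f χ.1 1 = 0 ∨ 1 - a < nr f χ.1 1)
    (hm : ∀ (χ : IrrCharacter ↥(GF F G)) c, IsL 5 c → c ≠ 1 → (∀ b, IsL 5 b → ¬ Cj D c b → nr f χ.1 b = 0) →
      ∀ m : ℤ, mL f 5 (r t₀) 1 χ.1 = m → m ≠ 0 → ¬ 5 ∣ m)
    {bad C : List (List ℤ)} {T : List (ℕ × ℕ × ℕ)}
    (hb : ∀ (χ : IrrCharacter ↥(GF F G)) (m : ℤ), yv f χ.1 1 (r t₀) = m → m ≠ 0 → 5 ∣ m → 1 / 2 < nr f χ.1 1 ∧
      ∃ b ∈ bad, ∃ ε : ℤ, (ε = 1 ∨ ε = -1) ∧ ∀ i < n, yv f χ.1 1 (r i) = (ε * b.getD i 0 : ℤ))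
    (h25 : ∀ b ∈ bad, b.length ≤ n ∧ ¬ 25 ∣ b.getD t₀ 0)
    (hT : ∀ t ∈ T, t.1 < n ∧ t.2.1 < n ∧ t.2.2 < n ∧ (Nat.card ↥(GF F G)).factorization 5 ≤
      (ordT D (r t.1)).factorization 5 + (ordT D (r t.2.1)).factorization 5)
    (hk : killB 5 (cubT bad t₀ T) C = true) : HZ0 5 M ↥(GF F G) := by
  classical
  have := @Fintype.ofFinite _ (finite_irr (G := ↥(GF F G)))
  choose μ hμ using fun (i : ℕ) (χ : IrrCharacter ↥(GF F G)) => mL_int f (l := 5) (fx_one (r i)) (Uni.gen_of_irr χ.2)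
  have h1 : ∀ χ ∈ principalBlock M ↥(GF F G), 5 ∣ μ t₀ χ → ∀ w, mL f 5 w 1 χ.1 = yv f χ.1 1 w := fun χ hχ hd w =>
    mL_uni f _ fun c hc h1 => (nr_eq_zero f _).1 (by_contra fun h0 => hm χ c hc h1
      (fun b => others_zero f ha χ.2 (hL χ) (hU χ) hc h1 h0) _ (hμ t₀ χ) (prin f hM hp hS hχ (hμ t₀ χ)).1 hd) w
  have h2 : ∀ χ ∈ principalBlock M ↥(GF F G), 5 ∣ μ t₀ χ → 1 / 2 < nr f χ.1 1 ∧
      ∃ b ∈ bad, ∃ ε : ℤ, (ε = 1 ∨ ε = -1) ∧ ∀ i < n, μ i χ = ε * b.getD i 0 := fun χ hχ hd => by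
    obtain ⟨h3, b, h4, ε, h5, h6⟩ := hb χ _ ((h1 χ hχ hd _).symm.trans (hμ t₀ χ)) (prin f hM hp hS hχ (hμ t₀ χ)).1 hd
    exact ⟨h3, b, h4, ε, h5, fun i hi => by exact_mod_cast (hμ i χ).symm.trans ((h1 χ hχ hd _).trans (h6 i hi))⟩
  let s : Finset (IrrCharacter ↥(GF F G)) := Finset.univ.filter fun χ => χ ∈ principalBlock M ↥(GF F G) ∧ 5 ∣ μ t₀ χ
  have hs : ∀ χ, χ ∈ s ↔ χ ∈ principalBlock M ↥(GF F G) ∧ 5 ∣ μ t₀ χ := fun χ => by simp [s]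
  have h3 : s = ∅ := by
    refine kill_cub (m := fun χ i => if i < n then μ i χ else 0) hk (fun χ hχ => ?_) (fun χ hχ => ?_)
      (fun χ hχ χ' hχ' ε hε h => ?_) fun t h => ?_
    · simpa [ht] using ((hs χ).1 hχ).2
    · obtain ⟨-, b, h4, ε, h5, h6⟩ := h2 χ ((hs χ).1 hχ).1 ((hs χ).1 hχ).2
      refine ⟨b, h4, ε, h5, fun i => ?_⟩
      split_ifs with e
      · exact h6 i e
      · rw [List.getD_eq_default _ _ ((h25 b h4).1.trans (not_lt.1 e)), mul_zero]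
    · by_contra e
      refine absurd (uniq f χ.2 χ'.2 (fun e' => e (Subtype.ext e')) (ε := ε) (c := 1)
        (by rcases hε with e | e <;> simp [e]) fun u => ?_) (not_le.2 (h2 χ ((hs χ).1 hχ).1 ((hs χ).1 hχ).2).1)
      obtain ⟨i, hi, v, hv⟩ := hcl u
      have h4 := h i
      simp only [hi, if_true] at h4
      have h5 : Rel D v 1 1 := fun x => by rw [map_one, map_one]
      rw [yv_conj f χ.1 hv h5, yv_conj f χ'.1 hv h5, ← h1 χ ((hs χ).1 hχ).1 ((hs χ).1 hχ).2,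
        ← h1 χ' ((hs χ').1 hχ').1 ((hs χ').1 hχ').2, hμ, hμ, h4, Int.cast_mul]
    · obtain ⟨h4, h5, h6, h7⟩ := hT t h
      have h8 := cub f hM hp hS (fx_one _) (fx_one _) (fx_one (r t.2.2)) h7 (hμ t₀) (hμ t.1) (hμ t.2.1) (hμ t.2.2) one_ne_zero
        (fun χ hχ hd => by
          obtain ⟨-, b, h4, ε, h5, h6⟩ := h2 χ hχ (Dvd.dvd.trans (by norm_num) hd)
          rw [h6 _ ht] at hd
          refine (h25 b h4).2 ?_
          rcases h5 with e | e <;> simpa [e] using hd) (s := s) fun χ => by simpa using hs χ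
      simpa [h4, h5, h6, ht] using h8
  refine hz_of_mL f hM hp hS fun χ m hχ hm _ hd => ?_
  have h4 : m = μ t₀ χ := by exact_mod_cast hm.symm.trans (hμ t₀ χ)
  exact Finset.notMem_empty χ (h3 ▸ (hs χ).2 ⟨hχ, h4 ▸ hd⟩)

end Cfsg.Agent.LV.F4
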