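import Cfsg.Agent.LV.F4.Node

/-!
# LV, `F₄`: the proper cosets (helper84)

`small` : norm `0` or at least `3 / 4`, values less than `5`.
-/

set_option autoImplicit false
set_option linter.unusedSectionVars false
set_option maxRecDepth 100000

namespace Cfsg.Agent.LV.F4

open CoxeterSystem Cfsg Cfsg.Agent.LV.T Cfsg.Agent.Tits.Core Cfsg.Agent.Tits.Exchange

/-- a certificate -/
noncomputable def n0 : Nd where
  b := 0
  σ := fun i => i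
  R := [[]]
  cj := List.map (dc 10) [1]
  T := 0x0
  m := 1
  M := []
  rel := [(0, [], 1, [], 1)]
  d := 1
  U := [[1]]
  B := [[1]]
  c := 1
  rw := [(1, 2, 1, [])]

/-- a certificate -/
noncomputable def n1 : Nd where
  b := 1
  σ := fun i => i
  R := [[], [0]]
  cj := List.map (dc 10) [1, 1]
  T := 0x20
  m := 2
  M := []
  rel := [(0, [0], 1, [], 1), (1, [], 1, [], 1)]
  d := 2
  U := [[0, 1], [1, -1]]
  B := [[1, -1], [1, 1]]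
  c := 1
  rw := [(2, 2, 1, []), (2, 2, 1, [0])]

/-- a certificate -/
noncomputable def n2 : Nd where
  b := 2
  σ := fun i => i
  R := [[], [1]]
  cj := List.map (dc 10) [1, 1]
  T := 0x20
  m := 2
  M := []
  rel := [(0, [1], 1, [], 1), (2, [], 1, [], 1)]
  d := 2
  U := [[0, 1], [1, -1]]
  B := [[1, -1], [1, 1]]
  c := 1
  rw := [(2, 2, 1, []), (2, 2, 1, [0])]

/-- a certificate -/
noncomputable def n3 : Nd where
  b := 3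
  σ := fun i => i
  R := [[], [0], [0, 1]]
  cj := List.map (dc 10) [1, 1, 17, 4, 1, 5]
  T := 0x1002100000
  m := 8
  M := []
  rel := [(0, [0, 1], 1, [], 1), (1, [], 1, [], 1), (3, [], 1, [], 1)]
  d := 6
  U := [[0, 0, 1], [0, 1, -1], [1, 1, -2]]
  B := [[1, 2, 1], [1, 0, -1], [1, -1, 1]]
  c := 1
  rw := [(6, 2, 1, []), (6, 2, 1, [0]), (6, 2, 1, [0, 0])]

/-- a certificate -/
noncomputable def n4 : Nd where
  b := 4
  σ := fun i => i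
  R := [[], [2]]
  cj := List.map (dc 10) [1, 1]
  T := 0x400
  m := 3
  M := []
  rel := [(0, [2], 1, [], 1), (4, [], 1, [], 1)]
  d := 2
  U := [[0, 1], [1, -1]]
  B := [[1, -1], [1, 1]]
  c := 1
  rw := [(2, 2, 1, []), (2, 2, 1, [0])]

/-- a certificate -/
noncomputable def n5 : Nd where
  b := 5
  σ := fun i => i
  R := [[], [0], [2], [2, 0]]
  cj := List.map (dc 10) [1, 1, 1, 1]
  T := 0x18820
  m := 5
  M := []
  rel := [(0, [2, 0], 1, [], 1), (1, [2], 1, [], 1), (4, [], 1, [], 1), (5, [], 1, [], 1)]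
  d := 4
  U := [[0, 0, 0, 1], [0, 1, 0, -1], [0, 0, 1, -1], [1, -1, 1, -1]]
  B := [[1, -1, 1, 1], [1, -1, -1, -1], [1, 1, 1, -1], [1, 1, -1, 1]]
  c := 1
  rw := [(4, 2, 1, []), (4, 2, 1, [0]), (4, 2, 1, [0, 0]), (4, 2, 1, [0, 0, 0])]

/-- a certificate -/
noncomputable def n6 : Nd where
  b := 6
  σ := fun i => i
  R := [[], [1], [2], [1, 2], [2, 1, 2, 1]]
  cj := List.map (dc 10) [1, 1, 1, 5, 1, 5, 6, 1]
  T := 0x20c2210460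
  m := 8
  M := []
  rel := [(0, [2, 1, 2, 1], 1, [], 1), (2, [], 1, [], 1), (2, [2, 1, 2], 1, [], 1), (4, [], 1, [], 1), (6, [], 1, [], 1)]
  d := 8
  U := [[0, 0, 0, 0, 1], [1, 1, -2, -1, 1], [0, 1, -1, -1, 1], [0, 0, 1, 0, -1], [0, 0, -1, -1, 2]]
  B := [[1, 1, 1, -1, -2], [1, -1, 1, 1, 0], [1, -1, -1, -1, 0], [1, 1, 0, 0, 1], [1, 1, -1, 1, 0]]
  c := 3
  rw := [(24, 2, 1, []), (24, 2, 1, [0]), (12, 2, 1, [0, 0]), (4, 2, 2, [0, 0, 1]), (2, 2, 3, [0, 0, -1, 1])]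

/-- a certificate -/
noncomputable def n7 : Nd where
  b := 7
  σ := fun i => i
  R := [[], [0], [2], [0, 1], [1, 2], [2, 0], [0, 1, 2], [2, 1, 2, 1], [0, 2, 1, 2, 1], [2, 1, 0, 2, 1, 2, 0, 1, 0]]
  cj := List.map (dc 10) [1, 1, 17, 4, 1, 5, 1, 1, 5, 24, 6, 24, 1, 4, 5, 68, 5, 17, 1, 4, 20, 17, 5, 17, 97, 24, 1, 4, 20, 88, 6, 25, 1, 4, 102,
    68, 5, 70, 22, 17, 89, 20, 25, 97, 25, 97, 89, 1]
  T := 0x60180e000c000100021400001000010100000318c000000404000002000080280a00000000001004080000500000290000000318c00000a400004000000a00040000300020180601c6000000380020012001840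
  m := 134
  M := []
  rel := [(0, [2, 1, 0, 2, 1, 2, 0, 1, 0], 1, [], 1), (1, [2, 1, 0, 2, 1, 2, 0, 1], 1, [], 1), (4, [], 1, [], 1), (4, [0, 1, 2, 1],
    1, [], 1), (5, [1, 0, 2, 1, 2, 0, 1], 1, [], 1), (3, [], 1, [], 1), (3, [2, 1, 0, 2, 1, 2], 1, [], 1), (6, [], 1, [], 1),
    (6, [0, 1, 2, 1, 0], 1, [], 1), (7, [], 1, [], 1)]
  d := 48
  U := [[0, 0, 0, 0, 0, 0, 0, 0, 0, 1], [-1, 2, 1, 0, 3, -2, -3, -2, -3, 5], [0, 0, 0, 0, 1, 0, 0, 0, -1, 0], [0, 0, 0, 0, 0, 0,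
    0, 0, -1, 1], [0, 1, 0, 0, -1, 0, -1, 0, 0, 1], [0, 0, 1, 0, 3, -2, -2, -2, -3, 5], [0, 0, -1, 0, -2, 1, 1, 2, 2, -3], [0,
    -1, 1, 1, 3, -1, 0, -2, -2, 1], [0, 0, 1, 0, 3, -2, -1, -2, -3, 4], [0, 0, 1, 0, 3, -2, -1, -1, -3, 3]]
  B := [[1, 1, 0, 0, 0, -2, -4, 2, -3, 2], [1, -1, 2, 0, 0, 0, 0, 0, -1, 0], [1, -1, -2, 0, 0, 0, 0, -2, -1, 2], [1, 1, 0, 0, 0,
    1, -1, -1, 0, -1], [1, 1, 0, 1, 1, 0, 2, 1, 0, 1], [1, 1, 0, 0, 0, -2, 0, 0, 1, 0], [1, -1, -1, 1, -1, 0, 0, 0, 1, 0], [1,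
    1, 0, -2, -2, 2, 0, 0, -1, 0], [1, -1, 0, -1, 1, 0, 0, 1, 0, -1], [1, -1, 2, -2, 2, 0, 0, 0, 1, 0]]
  c := 1
  rw := [(48, 2, 1, []), (48, 2, 1, [0]), (24, 2, 1, [0, 0]), (24, 2, 1, [0, 0, 0]), (24, 2, 1, [0, 0, 0, 0]), (6, 2, 2, [0, 0,
    -1, 0, -1]), (2, 2, 4, [0, 0, 1, 0, 1, 2]), (4, 2, 3, [0, 0, 1, 0, 1, -1, 1]), (8, 2, 2, [0, 0, -1, 1, 0, -1, 1, 0]), (4,
    2, 3, [0, 0, -1, 1, 0, -1, 1, 0, -1])]

/-- a certificate -/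
noncomputable def n8 : Nd where
  b := 8
  σ := fun i => i
  R := [[], [3]]
  cj := List.map (dc 10) [1, 1]
  T := 0x20
  m := 2
  M := []
  rel := [(0, [3], 1, [], 1), (8, [], 1, [], 1)]
  d := 2
  U := [[0, 1], [1, -1]]
  B := [[1, -1], [1, 1]]
  c := 1
  rw := [(2, 2, 1, []), (2, 2, 1, [0])]

/-- a certificate -/
noncomputable def n9 : Nd where
  b := 9
  σ := fun i => i
  R := [[], [0], [3], [3, 0]]
  cj := List.map (dc 10) [1, 1, 1, 1]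
  T := 0xc4000020
  m := 10
  M := []
  rel := [(0, [3, 0], 1, [], 1), (1, [3], 1, [], 1), (8, [], 1, [], 1), (9, [], 1, [], 1)]
  d := 4
  U := [[0, 0, 0, 1], [0, 1, 0, -1], [0, 0, 1, -1], [1, -1, 1, -1]]
  B := [[1, -1, 1, 1], [1, -1, -1, -1], [1, 1, 1, -1], [1, 1, -1, 1]]
  c := 1
  rw := [(4, 2, 1, []), (4, 2, 1, [0]), (4, 2, 1, [0, 0]), (4, 2, 1, [0, 0, 0])]

/-- a certificate -/
noncomputable def n10 : Nd where
  b := 10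
  σ := fun i => i
  R := [[], [1], [3], [3, 1]]
  cj := List.map (dc 10) [1, 1, 1, 1]
  T := 0x2010c00
  m := 6
  M := []
  rel := [(0, [3, 1], 1, [], 1), (2, [3], 1, [], 1), (8, [], 1, [], 1), (10, [], 1, [], 1)]
  d := 4
  U := [[0, 0, 0, 1], [0, 1, 0, -1], [0, 0, 1, -1], [1, -1, 1, -1]]
  B := [[1, -1, 1, 1], [1, -1, -1, -1], [1, 1, 1, -1], [1, 1, -1, 1]]
  c := 1
  rw := [(4, 2, 1, []), (4, 2, 1, [0]), (4, 2, 1, [0, 0]), (4, 2, 1, [0, 0, 0])]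

/-- a certificate -/
noncomputable def n11 : Nd where
  b := 11
  σ := fun i => i
  R := [[], [0], [3], [0, 1], [3, 0], [3, 0, 1]]
  cj := List.map (dc 10) [1, 1, 17, 4, 1, 5, 1, 1, 17, 4, 1, 5]
  T := 0x18000000042002111400
  m := 16
  M := []
  rel := [(0, [3, 0, 1], 1, [], 1), (1, [3], 1, [], 1), (8, [], 1, [], 1), (8, [0, 1], 1, [], 1), (9, [], 1, [], 1), (3, [], 1, [],
    1), (3, [3], 1, [], 1)]
  d := 12
  U := [[0, 0, -1, 1, 3, -1, -1], [0, 0, -1, 1, 3, -2, -1], [0, 0, 0, 1, 1, -1, -1], [1, 1, 0, -1, -1, 1, -1], [0, 0, -1, 1, 2,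
    -1, -1], [0, -1, 1, -1, -2, 1, 2]]
  B := [[1, -1, 1, -1, -2, 2], [1, -1, -1, 1, 0, 0], [1, 1, 1, 1, -2, -2], [1, -1, 1, -1, 1, -1], [1, 1, -1, -1, 0, 0], [1, 1, 1,
    1, 1, 1]]
  c := 1
  rw := [(12, 2, 1, []), (12, 2, 1, [0]), (12, 2, 1, [0, 0]), (12, 2, 1, [0, 0, 0]), (12, 2, 1, [0, 0, 0, 0]), (12, 2, 1, [0, 0,
    0, 0, 0])]

/-- a certificate -/
noncomputable def n12 : Nd where
  b := 12
  σ := fun i => i
  R := [[], [2], [2, 3]]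
  cj := List.map (dc 10) [1, 1, 27, 6, 1, 7]
  T := 0x40200001
  m := 7
  M := []
  rel := [(0, [2, 3], 1, [], 1), (4, [], 1, [], 1), (12, [], 1, [], 1)]
  d := 6
  U := [[0, 0, 1], [0, 1, -1], [1, 1, -2]]
  B := [[1, 2, 1], [1, 0, -1], [1, -1, 1]]
  c := 1
  rw := [(6, 2, 1, []), (6, 2, 1, [0]), (6, 2, 1, [0, 0])]

/-- a certificate -/
noncomputable def n13 : Nd where
  b := 13
  σ := fun i => i
  R := [[], [0], [2], [2, 0], [2, 3], [2, 3, 0]]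
  cj := List.map (dc 10) [1, 1, 1, 1, 27, 27, 6, 6, 1, 1, 7, 7]
  T := 0x8420000318c0420000094a0
  m := 27
  M := []
  rel := [(0, [2, 3, 0], 1, [], 1), (1, [2], 1, [], 1), (1, [2, 3], 1, [], 1), (4, [], 1, [], 1), (5, [], 1, [], 1), (12, [], 1,
    [], 1), (12, [0], 1, [], 1)]
  d := 12
  U := [[0, 1, 1, 0, 1, -1, -1], [0, -1, -1, 0, 0, 1, 1], [0, 0, 1, 0, 1, -1, -1], [0, -1, -1, 0, -1, 1, 2], [0, 1, 1, 1, 0, -2,
    -1], [1, 0, -1, -1, 1, 1, -1]]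
  B := [[1, 2, 1, -1, 2, -1], [1, 2, 1, 1, -2, 1], [1, 0, -1, -1, 0, 1], [1, 0, -1, 1, 0, -1], [1, -1, 1, -1, -1, -1], [1, -1, 1,
    1, 1, 1]]
  c := 1
  rw := [(12, 2, 1, []), (12, 2, 1, [0]), (12, 2, 1, [0, 0]), (12, 2, 1, [0, 0, 0]), (12, 2, 1, [0, 0, 0, 0]), (12, 2, 1, [0, 0,
    0, 0, 0])]

/-- a certificate -/
noncomputable def n14 : Nd where
  b := 14
  σ := fun i => i
  R := [[], [1], [2], [1, 2], [2, 3], [3, 1], [1, 2, 3], [2, 1, 2, 1], [1, 2, 3, 1, 2], [3, 2, 1, 2, 3, 2, 1, 2, 1]]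
  cj := List.map (dc 10) [1, 1, 1, 5, 1, 5, 6, 1, 27, 1, 6, 29, 7, 29, 109, 25, 1, 5, 7, 29, 6, 5, 30, 109, 1, 5, 7, 29, 1, 22, 121, 102, 27, 6, 6,
    89, 25, 22, 109, 102, 30, 7, 30, 29, 7, 118, 27, 1]
  T := 0x70000800000000c0480001040020c0028060014e41800000008304400200200106000e500000010000000018000080000100400000000000000000102008003008000100280000008000000000000000030000000401800030080014051800000000000000000601800
  m := 171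
  M := []
  rel := [(0, [3, 2, 1, 2, 3, 2, 1, 2, 1], 1, [], 1), (2, [2, 1, 2, 3], 1, [], 1), (2, [3, 2, 1, 2, 3, 2, 1, 2], 1, [], 1), (4, [],
    1, [], 1), (10, [2, 1, 2, 3, 2, 1, 2], 1, [], 1), (12, [], 1, [], 1), (12, [1, 2, 3, 1, 2, 1], 1, [], 1), (6, [], 1, [],
    1), (6, [3, 2, 1, 2, 3], 1, [], 1), (14, [], 1, [], 1)]
  d := 48
  U := [[0, 0, 0, 0, 0, 0, 0, 0, 0, 1], [-1, 2, 3, -2, -5, 6, 5, 2, 1, -11], [0, 0, 0, 0, -1, 0, 0, 0, 1, 0], [0, 0, 0, 0, 0, 0,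
    0, 0, -1, 1], [0, -1, -1, 1, 3, -3, -2, -1, -1, 5], [0, 0, 1, 0, -1, 0, 0, 0, -1, 1], [0, 0, -1, 0, 2, -1, -1, 0, 0, 1],
    [0, 0, 0, 1, 1, -2, -1, -1, -1, 3], [0, 0, 1, 0, -1, 0, 1, 0, -1, 0], [0, 0, 1, 0, -1, 0, 1, 1, -1, -1]]
  B := [[1, 1, 0, 0, 0, -2, -4, 2, -3, 2], [1, -1, 2, 0, 0, 0, 0, -2, -1, 2], [1, -1, -2, 0, 0, 0, 0, 0, -1, 0], [1, 1, 0, 1, -1,
    0, 2, 1, 0, 1], [1, 1, 0, 0, 0, 1, -1, -1, 0, -1], [1, 1, 0, 0, 0, -2, 0, 0, 1, 0], [1, -1, 1, 1, 1, 0, 0, 0, 1, 0], [1,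
    1, 0, -2, 2, 2, 0, 0, -1, 0], [1, -1, 0, -1, -1, 0, 0, 1, 0, -1], [1, -1, -2, -2, -2, 0, 0, 0, 1, 0]]
  c := 1
  rw := [(48, 2, 1, []), (48, 2, 1, [0]), (24, 2, 1, [0, 0]), (24, 2, 1, [0, 0, 0]), (24, 2, 1, [0, 0, 0, 0]), (6, 2, 2, [0, 0, 1,
    0, 1]), (2, 2, 4, [0, 0, -1, 0, -1, 2]), (4, 2, 3, [0, 0, -1, 0, -1, -1, 1]), (8, 2, 2, [0, 0, 1, 1, 0, -1, 1, 0]), (4, 2,
    3, [0, 0, 1, 1, 0, -1, 1, 0, -1])]

/-- a certificate -/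
noncomputable def n15 : Nd where
  b := 3
  σ := ![1, 0, 2, 3]
  R := [[], [0], [0, 1, 0]]
  cj := List.map (dc 10) [1, 1, 4, 5, 4, 1]
  T := 0x2200000
  m := 8
  M := []
  rel := [(0, [0, 1, 0], 1, [], 1), (1, [1, 0], 1, [], 1), (3, [], 1, [], 1)]
  d := 6
  U := [[0, -1, 1], [0, 0, 1], [1, -2, 1]]
  B := [[0, 1, -1], [1, 1, 1], [-2, 1, 1]]
  c := 1
  rw := [(6, 2, 1, []), (6, 2, 1, [0]), (6, 2, 1, [0, 0])]

/-- a certificate -/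
noncomputable def n16 : Nd where
  b := 11
  σ := ![1, 0, 2, 3]
  R := [[], [0], [3], [3, 0], [0, 1, 0], [3, 0, 1, 0]]
  cj := List.map (dc 10) [1, 1, 4, 5, 4, 1, 1, 1, 4, 5, 4, 1]
  T := 0x32802410800
  m := 16
  M := []
  rel := [(0, [3, 0, 1, 0], 1, [], 1), (1, [3, 1, 0], 1, [], 1), (8, [], 1, [], 1), (8, [0], 1, [], 1), (9, [1, 0], 1, [], 1), (3,
    [], 1, [], 1), (3, [3], 1, [], 1)]
  d := 12
  U := [[0, 1, 1, 1, 0, -1, -2], [0, 0, 1, 1, 0, -1, -1], [0, 0, 1, 1, 1, -1, -1], [0, 0, 0, -1, -1, 1, 1], [0, 0, -1, -1, -1, 1,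
    2], [1, -2, 0, -1, -1, 1, 2]]
  B := [[0, 0, 1, 1, -1, 1], [1, 1, 1, -1, -1, -1], [0, 0, 1, 1, 1, -1], [-1, 1, 1, -1, 1, 1], [-2, -2, 1, -1, -1, -1], [2, -2,
    1, -1, 1, 1]]
  c := 1
  rw := [(12, 2, 1, []), (12, 2, 1, [0]), (12, 2, 1, [0, 0]), (12, 2, 1, [0, 0, 0]), (12, 2, 1, [0, 0, 0, 0]), (12, 2, 1, [0, 0,
    0, 0, 0])]

/-- a certificate -/
noncomputable def n17 : Nd where
  b := 12
  σ := ![0, 1, 3, 2]
  R := [[], [2], [2, 3, 2]]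
  cj := List.map (dc 10) [1, 1, 6, 7, 6, 1]
  T := 0x80000001
  m := 7
  M := []
  rel := [(0, [2, 3, 2], 1, [], 1), (4, [3, 2], 1, [], 1), (12, [], 1, [], 1)]
  d := 6
  U := [[0, -1, 1], [0, 0, 1], [1, -2, 1]]
  B := [[0, 1, -1], [1, 1, 1], [-2, 1, 1]]
  c := 1
  rw := [(6, 2, 1, []), (6, 2, 1, [0]), (6, 2, 1, [0, 0])]

/-- a certificate -/
noncomputable def n18 : Nd where
  b := 13
  σ := ![0, 1, 3, 2]
  R := [[], [0], [2], [2, 0], [2, 3, 2], [2, 3, 2, 0]]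
  cj := List.map (dc 10) [1, 1, 1, 1, 6, 6, 7, 7, 6, 6, 1, 1]
  T := 0x84400003194000000008420
  m := 27
  M := []
  rel := [(0, [2, 3, 2, 0], 1, [], 1), (1, [2], 1, [], 1), (1, [2, 3, 2], 1, [], 1), (4, [3, 2], 1, [], 1), (5, [3, 2], 1, [], 1),
    (12, [], 1, [], 1), (12, [0], 1, [], 1)]
  d := 12
  U := [[0, -1, 1, -1, -2, 2, 1], [0, 1, -1, 0, 2, -1, -1], [0, 1, -1, 0, 3, -1, -1], [0, 1, 0, 0, 1, -1, -1], [0, 1, -1, 0, 3,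
    -1, -2], [1, 1, -2, 2, 1, -2, -1]]
  B := [[0, 0, 1, -1, 1, 1], [0, 0, 1, -1, -1, -1], [1, 1, 1, 1, 1, -1], [-1, 1, 1, 1, -1, 1], [-2, -2, 1, 1, 1, -1], [2, -2, 1,
    1, -1, 1]]
  c := 1
  rw := [(12, 2, 1, []), (12, 2, 1, [0]), (12, 2, 1, [0, 0]), (12, 2, 1, [0, 0, 0]), (12, 2, 1, [0, 0, 0, 0]), (12, 2, 1, [0, 0,
    0, 0, 0])]

/-- the certificates -/
noncomputable def nodes : List Nd := [n0, n1, n2, n3, n4, n5, n6, n7, n8, n9, n10, n11, n12, n13, n14, n15, n16, n17, n18]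

/-- the test at the leaves -/
noncomputable def pS (N : Nd) (x : List ℤ) (s : ℤ) : Bool :=
  (s == 0 || decide (3 * N.bd ≤ 4 * s)) && (mv N.B x).all fun a => decide (a.natAbs < 5)

theorem nodes_ck : ∀ N ∈ nodes, N.clB = true ∧ N.laB = true ∧ fp (pS N) N.bd N.rw [] 0 = true ∧
    ∀ r ∈ N.rel, r.2.2.2 = ([], 1) := by decide +kernel

set_option synthInstance.maxSize 2000 in
theorem nodes_all : ∀ b < 15, ∀ σ : Fin 4 → Fin 4, (∀ i : Fin 4, Nat.testBit b i = true → Nat.testBit b (σ i) = true ∧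
    (i < 2 ↔ σ i < 2) ∧ ∀ j : Fin 4, Nat.testBit b j = true → (σ i = σ j → i = j) ∧
      (ky [i, j] = ky [j, i] → ky [σ i, σ j] = ky [σ j, σ i])) →
    ∃ N ∈ nodes, N.b = b ∧ ∀ i : Fin 4, Nat.testBit b i = true → N.σ i = σ i := by decide +kernel

theorem liftable' : CoxeterMatrix.F₄.IsLiftable fun i : Fin 4 => if i < 2 then (-1 : ℤ) else 1 := by
  unfold CoxeterMatrix.IsLiftable
  decide

theorem lt_two_iff {w : W4} {i j : Fin 4} (h : w * c4.simple i = c4.simple j * w) : i < 2 ↔ j < 2 := by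
  have h1 := congrArg (c4.lift ⟨_, liftable'⟩) (eq_mul_inv_of_mul_eq h.symm)
  rw [map_mul, map_mul, mul_right_comm, ← map_mul, mul_inv_cancel, map_one, one_mul, c4.lift_apply_simple,
    c4.lift_apply_simple] at h1
  revert h1
  split_ifs <;> simp [*]

/-- **The proper cosets.** -/
theorem small [Fintype W4] {b : ℕ} (hb : b < 15) {w : W4} (hn : ∀ i ∈ sB b, ∃ j ∈ sB b, w * c4.simple i = c4.simple j * w)
    {y : W4 → ℂ} (h1 : Lv c4 1 (sB b) w y) (h2 : Inv b y) [Fintype (WJ c4 (sB b))]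
    {ν : ℝ} (hν : ν = (Nat.card (WJ c4 (sB b)) : ℝ)⁻¹ * ∑ x : WJ c4 (sB b), ‖y (x * w)‖ ^ 2) (h4 : ν ≤ 1) :
    (ν = 0 ∨ 3 / 4 ≤ ν) ∧ ∀ u ∈ WJ c4 (sB b), ∃ n : ℤ, y (u * w) = n ∧ n.natAbs < 5 := by
  choose! σ h5 h6 using hn
  refine (nodes_all b hb σ fun i hi => ⟨h5 i hi, lt_two_iff (h6 i hi), fun j hj => ⟨fun e => ?_, fun e => ?_⟩⟩).elim ?_
  rotate_left 2
  · rintro N ⟨h7, rfl, h8⟩
    obtain ⟨h9, h10, h11, h12⟩ := nodes_ck N h7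
    have hw : N.Sg w := fun i hi => by rw [h8 i hi, h6 i hi]
    obtain ⟨x, s, e1, e2, e3, e4⟩ := Nd.node h9 h10 h11 hw h1 h2 (Nd.gs_small h12 h1 h2) hν h4
    simp only [pS, Bool.and_eq_true, Bool.or_eq_true, beq_iff_eq, decide_eq_true_eq, List.all_eq_true] at e1
    have e5 : (0 : ℝ) < N.bd := by exact_mod_cast e2
    refine ⟨e1.1.imp (fun e => ?_) fun e => ?_, fun u hu => ?_⟩
    · rw [e, Int.cast_zero] at e3
      exact (mul_eq_zero.1 e3.symm).resolve_left e5.ne'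
    · have e6 : (3 * N.bd : ℝ) ≤ 4 * s := by exact_mod_cast e
      rw [e3] at e6
      nlinarith
    · obtain ⟨L, e6, rfl⟩ := exists_EB (Nd.lt h9) hu
      refine ⟨_, Nd.val h9 hw h2 e4 (inB_of_mem e6), ?_⟩
      rcases lt_or_ge (N.κ L) (mv N.B x).length with e | e
      · rw [List.getD_eq_getElem _ _ e]
        exact e1.2 _ (List.getElem_mem e)
      · rw [List.getD_eq_default _ _ e]
        decide
  · have e1 : el [i] = el [j] := by rw [el_one, el_one, ← mul_right_inj w, h6 i hi, h6 j hj, e]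
    exact (by decide +kernel : ∀ i j : Fin 4, ky [i] = ky [j] → i = j) i j (el_eq_iff.1 e1)
  · have e1 := el_eq_iff.2 e
    rw [← el_eq_iff]
    simp only [el_cons, el_nil, mul_one] at e1 ⊢
    rw [← mul_left_inj w, mul_assoc, mul_assoc, ← h6 i hi, ← h6 j hj, ← mul_assoc, ← mul_assoc, ← h6 i hi, ← h6 j hj,
      mul_assoc, mul_assoc, e1]

end Cfsg.Agent.LV.F4
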