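import Cfsg.Agent.LV.F4.Fac
import Cfsg.Agent.LV.F4.Small
import Cfsg.Agent.LV.F4.Cub
import Cfsg.Agent.LV.Lab.Good
import Cfsg.Agent.LV.Blk.Sit
import Cfsg.Agent.KZ.DatX.Main

/-!
# LV, `F₄`: height zero in the principal `5`-block (helper84)

`hz_F4` for the datum, `row_f4` for the family.
-/

set_option autoImplicit false
set_option linter.unusedSectionVars false
set_option maxHeartbeats 400000

namespace Cfsg.Agent.LV.F4

open CoxeterSystem Cfsg Cfsg.Lie Cfsg.Agent.DL Cfsg.Agent.DL.PP Cfsg.Agent.KZ.Lie Cfsg.Agent.KZ.DatX Cfsg.Agent.KZ.McX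
  Cfsg.Agent.LV.T Cfsg.Agent.LV.Blk Cfsg.Agent.LV.Lab Cfsg.Agent.Tits.Core Cfsg.Agent.Tits.Roots Cfsg.Agent.Tits.Exchange
  Cfsg.Agent.ChevalleyStructure.CoxeterGeom Cfsg.Agent.ChevalleyStructure.CoxeterGeomTypes Cfsg.Agent.Nodes.RGDChev Matrix

variable {p : ℕ} [Fact p.Prime] {k : Type} [Field k] [CharP k p] [IsAlgClosed k]

section General

variable {Y : Type} [Group Y] {N : Type} [Fintype N] [DecidableEq N] {ρ : Y →* GL N k} {F : MulAut Y} {G : Subgroup Y}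
  {D : Datum p ρ F G} {v w w' : D.W}

theorem ordT_tc (h : Tc D v w w') : ordT D w = ordT D w' := by
  have h1 : D.Wm v * (D.Wm w * D.Mx - 1) = (D.Wm w' * D.Mx - 1) * D.Wm v := by
    rw [mul_sub, sub_mul, mul_one, one_mul, mul_assoc (D.Wm w'), D.Mx_Wm, ← mul_assoc, ← mul_assoc, ← D.Wm_mul,
      ← D.Wm_mul, show w' * D.Fw v = v * w from h]
  have h2 := congrArg (fun A => A.det.natAbs) h1
  simpa only [ordT, det_mul, Int.natAbs_mul, natAbs_det_Wm, one_mul, mul_one] using h2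

theorem mL_tc [Fintype ↥(GF F G)] (f : Fr D) (χ : ↥(GF F G) → ℂ) {l : ℕ} {c : Lbl D} (hc : IsL l c)
    (h : ∀ b, IsL l b → ¬ Cj D c b → nr f χ b = 0) (ht : Tc D v w w') : mL f l w 1 χ = mL f l w' 1 χ := by
  have := Fintype.ofFinite D.W
  refine mul_right_cancel₀ (Nat.cast_ne_zero.2 (card_St_ne c)) ?_
  rw [mL_ind f χ hc fun b hb e => (nr_eq_zero f χ).1 (h b hb e) _,
    mL_ind f χ hc fun b hb e => (nr_eq_zero f χ).1 (h b hb e) _]
  refine Fintype.sum_equiv (Equiv.mulLeft v) _ _ fun u => ?_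
  rw [Equiv.coe_mulLeft, map_mul, ← mul_assoc, mul_assoc _ w', show w' * D.Fw v = v * w from ht, _root_.mul_inv_rev,
    ← mul_assoc, inv_mul_cancel_right]

end General

variable {q : ℤ} (X : XF hpF4 p k (q • 1))

theorem Fw_one : X.D.Fw = 1 := MulEquiv.ext fun w => X.D.Wm_injective <| by
  have h0 : X.D.Mx = q • 1 := rfl
  have h1 := X.D.Mx_Wm w
  have h2 := X.D.det_Mx_ne_zero
  rw [h0] at h1 h2
  rw [smul_mul_assoc, mul_smul_comm, one_mul, mul_one] at h1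
  refine (smul_right_injective _ (fun e => h2 ?_) h1).symm
  exact (congrArg (fun z : ℤ => (z • (1 : Matrix X.D.R X.D.R ℤ)).det) e).trans (by
    have : Nonempty X.D.R := ⟨(0 : Fin 4)⟩
    rw [zero_smul, det_zero])

theorem tc_iff' {v w w' : W4} : Tc X.D v w w' ↔ w' * v = v * w :=
  iff_of_eq (congrArg (fun z : W4 => w' * z = v * w) (DFunLike.congr_fun (Fw_one X) v))

theorem ordT_ph (w : W4) : ordT X.D w = (q • ph w - 1).det.natAbs := by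
  obtain ⟨L, -, rfl⟩ := exists_el w
  have h1 : ∀ A : Matrix (Fin 4) (Fin 4) ℤ, A * q • 1 = q • A := fun A => by rw [mul_smul_comm, mul_one]
  rw [ph_el, ← X.Wm_word]
  exact congrArg (fun A : Matrix (Fin 4) (Fin 4) ℤ => (A - 1).det.natAbs) (h1 _)

theorem val_rep {d : Fin 3} (hd : q % 5 ∈ rs d) {i : ℕ} (hi : i < 25) :
    (ordT X.D (rep i)).factorization 5 = mu d i * (evL (cy d) q).natAbs.factorization 5 := by
  have h := ordT_ne (D := X.D) (rep i)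
  rw [ordT_ph] at h ⊢
  exact val_det hd hi h

theorem not_dvd_W : ¬ 5 ∣ Nat.card W4 := by rw [card_W_F4]; decide

theorem exists_lt {K : Set (Fin 4)} {w₁ : W4} {c : Lbl X.D} (H : Std X.D K w₁ c) (h1 : c ≠ 1) : ∃ b < 15, K = sB b := by
  obtain ⟨b, h2, rfl⟩ := exists_sB K
  refine ⟨b, lt_of_le_of_ne (Nat.le_of_lt_succ h2) ?_, rfl⟩
  rintro rfl
  have h3 : ∀ c : Fin 4 → ℂˣ, (∀ i, chr (cartanOf chevF4 4 i) c = 1) → c = 1 := fun c h => funext fun j => by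
    rw [← DL.chr_single j c, ← cartan_inv j, DL.chr_sum]
    exact Finset.prod_eq_one fun i _ => by rw [DL.chr_zsmul, h, _root_.one_zpow]
  exact h1 (h3 c fun i => X.cor_sr i ▸ (H.cor _ (isRoot_sr _ _ i)).2 fun j hj => absurd (sB_top ▸ Set.mem_univ j) hj)

variable {X} [Fintype ↥(GF X.F ⊤)] (f : Fr X.D)

theorem std_node {b : ℕ} {w₁ : W4} {c : Lbl X.D} (H : Std X.D (sB b) w₁ c) :
    ∀ i ∈ sB b, ∃ j ∈ sB b, w₁ * c4.simple i = c4.simple j * w₁ := fun i hi => by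
  obtain ⟨j, h1, -, h2⟩ := H.node i hi
  rw [Fw_one] at h2
  exact ⟨j, h1, h2⟩

theorem std_small {b : ℕ} (hb : b < 15) {w₁ : W4} {c : Lbl X.D} (H : Std X.D (sB b) w₁ c) (χ : IrrCharacter ↥(GF X.F ⊤)) :
    (nr f χ.1 c = 0 ∨ 3 / 4 ≤ nr f χ.1 c) ∧
      ∀ u ∈ WJ c4 (sB b), ∃ n : ℤ, yv f χ.1 c (u * w₁) = n ∧ n.natAbs < 5 := by
  have := finite_W4
  let _ := Fintype.ofFinite W4
  let _ : Fintype X.D.W := ‹Fintype W4›
  let _ := Fintype.ofFinite (WJ c4 (sB b))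
  let _ : Fintype (WJ X.D.cs (sB b)) := ‹Fintype (WJ c4 (sB b))›
  have h1 := H.lv f X.D_qs (Uni.gen_of_irr χ.2)
  rw [Fw_one] at h1
  refine small hb (std_node H) h1 (fun x hx u => ?_) (H.nr_eq f χ.1) (nr_le_one f χ.2 c)
  have h2 := H.yv_cls f χ.1 hx u
  rwa [Fw_one] at h2

theorem top_one (χ : IrrCharacter ↥(GF X.F ⊤)) : (nr f χ.1 1 = 0 ∨ 1 / 4 < nr f χ.1 1) ∧
    ∀ (d : Fin 3) (m : ℤ), yv f χ.1 1 (rep (t0 d)) = m → m ≠ 0 → 5 ∣ m → 1 / 2 < nr f χ.1 1 ∧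
      ∃ b ∈ bad d, ∃ ε : ℤ, (ε = 1 ∨ ε = -1) ∧ ∀ i < 25, yv f χ.1 1 (rep i) = (ε * b.getD i 0 : ℤ) := by
  have := finite_W4
  let _ := Fintype.ofFinite W4
  let _ : Fintype X.D.W := ‹Fintype W4›
  have h1 := boxLv f X.D_qs _ (Uni.gen_of_irr χ.2)
  rw [Fw_one] at h1
  refine top h1 (fun x u => ?_) (nr_one f χ.1) (nr_le_one f χ.2 1)
  have h2 := (std_one X.D_qs).yv_cls f χ.1 (mem_WJ_univ _ x) u
  rwa [Fw_one] at h2

theorem lab_unit (d : Fin 3) (χ : IrrCharacter ↥(GF X.F ⊤)) {c : Lbl X.D} (hc : IsL 5 c) (h1 : c ≠ 1)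
    (h : ∀ b, IsL 5 b → ¬ Cj X.D c b → nr f χ.1 b = 0) {m : ℤ} (hm : mL f 5 (rep (t0 d)) 1 χ.1 = m) (h0 : m ≠ 0) :
    ¬ 5 ∣ m := by
  let _ := Fintype.ofFinite X.D.W
  have h2 := mL_ind f χ.1 (w := rep (t0 d)) hc fun b hb e => (nr_eq_zero f _).1 (h b hb e) _
  rw [hm] at h2
  obtain ⟨v, -, hv⟩ := Finset.exists_ne_zero_of_sum_ne_zero
    (h2 ▸ mul_ne_zero (Int.cast_ne_zero.2 h0) (Nat.cast_ne_zero.2 (card_St_ne c)))
  obtain ⟨v', c', K, w₁, x, hx, h3, h4, h5, H⟩ := exists_std' X.D_qs Nat.prime_five (good_F4 X Nat.prime_five le_rfl) hc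
    (by_contra fun e => hv (yv_zero f _ e))
  obtain ⟨b, hb, rfl⟩ := exists_lt X H fun e => h1 (Cj.eq_one (e ▸ Cj.symm ⟨_, h3⟩))
  have h6 := tc_trans (tc_self v _).symm h4
  have h7 : ∀ b, IsL 5 b → ¬ Cj X.D c' b → nr f χ.1 b = 0 := fun b hb e => h b hb fun e' => e (Cj.trans ⟨_, h3.symm⟩ e')
  obtain ⟨t, h8, h9⟩ := mL_unit f χ.1 (w := x * w₁) h5 (fun b hb e => (nr_eq_zero f _).1 (h7 b hb e) _) fun w' z e e' => by
    obtain ⟨u, e1, e2⟩ := fus hb (d := d) (eq_mul_inv_of_mul_eq ((tc_iff' X).1 h6))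
      (eq_mul_inv_of_mul_eq ((tc_iff' X).1 (tc_trans h6 e'.symm))) (fun i hi => by
        obtain ⟨j, e1, e2⟩ := std_node H i hi
        have e3 : ∀ x w : W4, w * c4.simple i = c4.simple j * w → x ∈ WJ c4 (sB b) →
            x * w * c4.simple i * (x * w)⁻¹ ∈ WJ c4 (sB b) := fun x w e hx => by
          rw [mul_assoc x, e, ← mul_assoc, _root_.mul_inv_rev, ← mul_assoc, mul_inv_cancel_right]
          exact mul_mem (mul_mem hx (simple_mem_WJ _ e1)) (inv_mem hx)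
        exact e3 x w₁ e2 hx) (by
        have e3 : ∀ x y w : W4, y * w⁻¹ ∈ WJ c4 (sB b) → x ∈ WJ c4 (sB b) → y * (x * w)⁻¹ ∈ WJ c4 (sB b) :=
          fun x y w e hx => by
            rw [_root_.mul_inv_rev, ← mul_assoc]
            exact mul_mem e (inv_mem hx)
        exact e3 x w' w₁ ((H.fx _).1 e) hx)
    exact ⟨u, (H.stab u).2 e1, (tc_iff' X).2 e2⟩
  obtain ⟨n, h10, h11⟩ := (std_small f hb H χ).2 x hx
  rw [← mL_tc f _ h5 h7 h6, hm] at h9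
  have h12 : m = t * n := by exact_mod_cast h9.trans (congrArg _ h10)
  rw [h12] at h0 ⊢
  intro hd
  rcases Int.prime_iff_natAbs_prime.2 (show (5 : ℤ).natAbs.Prime from Nat.prime_five) |>.dvd_or_dvd hd with e | e
  · exact not_dvd_W ((Int.natCast_dvd_natCast.1 e).trans (h8.trans (Subgroup.card_subgroup_dvd_card _)))
  · have := right_ne_zero_of_mul h0
    omega

/-- **Height zero** for the datum -/
theorem hz_F4 {M : Ideal AlgInt} (hM : IsPModular 5 M) (hp : 5 ≠ p) (hq : ¬ 5 ∣ q) : HZ0 5 M ↥(GF X.F ⊤) := by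
  obtain ⟨f⟩ := nonempty_fr X.D
  obtain ⟨d, hd⟩ := exists_rs hq
  have hcl : ∀ u, ∃ i < 25, ∃ v, Tc X.D v u (rep i) := fun u =>
    (exists_rep u).imp fun _ h => ⟨h.1, h.2.imp fun _ => (tc_iff' X).2⟩
  have hS : SylT X.D 5 (rep (t0 d)) := sylT_of_le (fun w => by
    obtain ⟨i, hi, v, hv⟩ := hcl w
    rw [ordT_tc hv, val_rep X hd hi, val_rep X hd (t0_lt d)]
    exact Nat.mul_le_mul_right _ (fa_ck d i hi).2.1) (exists_sylT X.D Nat.prime_five hp not_dvd_W)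
  refine hz_of_cub f hM hp (t0_lt d) hS hcl (a := 3 / 4) (by norm_num) (fun χ c hc h1 => ?_)
    (fun χ => (top_one f χ).1.imp_right fun h => by linarith) (fun χ c hc h1 h m => lab_unit f d χ hc h1 h)
    (fun χ => (top_one f χ).2 d) (bad_ck d) (fun t ht => ?_) (cub_ck d)
  · refine or_iff_not_imp_left.2 fun h0 => ?_
    obtain ⟨u, hu⟩ := not_forall.1 (mt (nr_eq_zero f _).2 h0)
    obtain ⟨c', K, w₁, h3, -, H⟩ := exists_std X.D_qs Nat.prime_five (good_F4 X Nat.prime_five le_rfl) hc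
      (by_contra fun e => hu (yv_zero f _ e))
    obtain ⟨b, hb, rfl⟩ := exists_lt X H fun e => h1 (Cj.eq_one (e ▸ h3.symm))
    rw [nr_cj f _ h3] at h0 ⊢
    exact (std_small f hb H χ).1.resolve_left h0
  · obtain ⟨h1, h2, h3, h4⟩ := tri_ck d t ht
    refine ⟨h1, h2, h3, hS.le.trans ?_⟩
    rw [val_rep X hd h1, val_rep X hd h2, val_rep X hd (t0_lt d), ← add_mul]
    exact Nat.mul_le_mul_right _ h4

theorem hz_of_has {Adm : Matrix (Fin 4) (Fin 4) ℤ → Prop} {d : ℕ} {S : Type} [Group S] (h : Has hpF4 p (q • 1) Adm d S)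
    {M : Ideal AlgInt} (hM : IsPModular 5 M) (hp : 5 ≠ p) (hq : ¬ 5 ∣ q) : HZ0 5 M S := by
  obtain ⟨k, _, _, _, X, ⟨s⟩⟩ := h
  have := X.finite
  have := Fintype.ofFinite ↥(GF X.F ⊤)
  exact hz_down s.sit hM (hz_F4 hM hp hq)

/-- **The row `F₄` for `p = 5`.** -/
theorem row_f4 : Row 5 (ChevX 5 Lie.chevF4 0) := by
  rintro M hM S _ _ - - ⟨F, _, _, h1, -, ⟨i⟩⟩ - - -
  obtain ⟨p, e, _, _, -, he, hF, -⟩ := Ex.exists_closure F
  have hp : 5 ≠ p := fun h => h1 (hF ▸ h ▸ dvd_pow_self 5 he.ne')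
  have hq : ¬ 5 ∣ (p : ℤ) ^ e := fun h => h1 (hF ▸ by exact_mod_cast h)
  by_cases h2 : p = 2
  · subst h2
    exact hz_of_has ((has_F4two hF).congr i) hM hp hq
  · exact hz_of_has ((has_F4 hF h2).congr i) hM hp hq

end Cfsg.Agent.LV.F4
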