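import Cfsg.Agent.KZ.TF.FltA

/-!
# LV: the cubic identity kills a list of bad vectors (helper84)

* `dotL` : the scalar product of two lists, `dotL_eq`;
* `killB l At C` : a certificate that no nonempty set of rows of `At` has the sum `0` modulo `l`; `kill`;
* `kill_cub` : the form for the cubic identity `LV.Blk.cub` (`l = 5`, `e = 1`).
-/

set_option autoImplicit false

namespace Cfsg.Agent.LV.F4

open Finset Cfsg.Agent.KZ.TF.Flt

/-- the scalar product -/
noncomputable def dotL (a : List ℤ) : List ℤ → ℤ :=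
  List.rec (fun _ => 0) (fun u _ ih b => List.rec 0 (fun v b _ => Int.add (Int.mul u v) (ih b)) b) a

theorem dotL_nil (b : List ℤ) : dotL [] b = 0 := rfl

theorem dotL_nil' (a : List ℤ) : dotL a [] = 0 := by cases a <;> rfl

theorem dotL_cons (u v : ℤ) (a b : List ℤ) : dotL (u :: a) (v :: b) = u * v + dotL a b := rfl

theorem dotL_eq (a b : List ℤ) {n : ℕ} (h : a.length ≤ n) : dotL a b = ∑ j ∈ range n, a.getD j 0 * b.getD j 0 := by
  induction a generalizing b n with
  | nil => simp [dotL_nil]
  | cons u a ih =>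
    cases b with
    | nil => simp [dotL_nil']
    | cons v b =>
      obtain ⟨n, rfl⟩ : ∃ m, n = m + 1 := ⟨n - 1, by simp at h; omega⟩
      rw [dotL_cons, sum_range_succ', ih b (Nat.le_of_succ_le_succ h), add_comm]
      simp

theorem dotL_comm (a b : List ℤ) : dotL a b = dotL b a := by
  rw [dotL_eq a b (le_max_left _ b.length), dotL_eq b a (le_max_right a.length _)]
  exact sum_congr rfl fun _ _ => mul_comm _ _

/-- evaluate a list of lists -/
noncomputable def fM (l : List (List ℤ)) : (List (List ℤ) → Bool) → Bool :=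
  List.rec (fun f => f []) (fun c _ ih f => fL c fun c => ih fun l => f (c :: l)) l

theorem fM_eq (l : List (List ℤ)) (f : List (List ℤ) → Bool) : fM l f = f l := by
  induction l generalizing f with
  | nil => rfl
  | cons c l ih => exact (fL_eq c fun c => fM l fun l => f (c :: l)).trans (ih _)

/-- the search: the row `r` only involves the variables which are known -/
noncomputable def goK (l : ℤ) (R : List (List ℤ)) : List ℤ → Bool :=
  List.rec (fun x => x.all (· == 0)) (fun r _ ih x => (r.drop (x.length + 1)).all (· == 0) &&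
    ([0, 1].all fun b => fL (x ++ [b]) fun x' => dotL r x' % l != 0 || ih x')) R

theorem goK_sound {l : ℤ} (u : ℕ → ℤ) (hu : ∀ j, u j = 0 ∨ u j = 1) (R : List (List ℤ)) (x : List ℤ)
    (h : goK l R x = true) (hx : ∀ j < x.length, x.getD j 0 = u j)
    (hR : ∀ r ∈ R, l ∣ ∑ j ∈ range r.length, r.getD j 0 * u j) : ∀ j < x.length + R.length, u j = 0 := by
  induction R generalizing x with
  | nil =>
    intro j hj
    have h1 : x.all (· == 0) = true := h
    rw [← hx j hj, List.getD_eq_getElem _ _ hj]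
    simpa using List.all_eq_true.1 h1 _ (List.getElem_mem hj)
  | cons r R ih =>
    have h1 : ((r.drop (x.length + 1)).all (· == 0) &&
      ([0, 1].all fun b => fL (x ++ [b]) fun x' => dotL r x' % l != 0 || goK l R x')) = true := h
    simp only [fL_eq, Bool.and_eq_true, List.all_eq_true, Bool.or_eq_true, bne_iff_ne, beq_iff_eq] at h1
    have h2 : ∀ j < (x ++ [u x.length]).length, (x ++ [u x.length]).getD j 0 = u j := fun j hj => by
      rcases lt_or_eq_of_le (Nat.le_of_lt_succ (by simpa using hj) : j ≤ x.length) with e | e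
      · rw [List.getD_append _ _ _ _ e, hx j e]
      · simp [e]
    rcases h1.2 (u x.length) (by rcases hu x.length with e | e <;> simp [e]) with h3 | h3
    · refine absurd (Int.emod_eq_zero_of_dvd ?_) h3
      rw [dotL_eq _ _ le_rfl]
      refine (hR r List.mem_cons_self).trans (dvd_of_eq (sum_congr rfl fun j hj => ?_))
      by_cases e : j < (x ++ [u x.length]).length
      · rw [h2 j e]
      · have h4 : r.getD j 0 = 0 := by
          rw [List.getD_eq_getElem _ _ (mem_range.1 hj)]
          refine h1.1 _ (List.mem_drop_iff_getElem.2 ⟨j - (x.length + 1), ?_, ?_⟩)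
          · have := mem_range.1 hj
            simp at e
            omega
          · congr 1
            simp at e
            omega
        rw [h4, zero_mul, zero_mul]
    · intro j hj
      exact ih _ h3 h2 (fun r' hr => hR r' (List.mem_cons_of_mem _ hr)) j (by simp at hj ⊢; omega)

/-- the certificate: `C` is a list of linear combinations of the columns of `At` -/
noncomputable def killB (l : ℤ) (At C : List (List ℤ)) : Bool :=
  fM At fun At => C.length == At.length && fM (C.map fun c => At.map fun a => dotL c a % l) fun R => goK l R []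

/-- no nonempty set of rows of `At` has the sum zero modulo `l` -/
theorem kill {l : ℤ} {At C : List (List ℤ)} (h : killB l At C = true) {S : Finset ℕ} (hS : ∀ j ∈ S, j < At.length)
    (hz : ∀ t, l ∣ ∑ j ∈ S, (At.getD j []).getD t 0) : S = ∅ := by
  classical
  simp only [killB, fM_eq, Bool.and_eq_true, beq_iff_eq] at h
  have h1 := goK_sound (fun j => if j ∈ S then 1 else 0) (fun j => by split_ifs <;> simp) _ _ h.2 (by simp) fun r hr => by
    obtain ⟨c, -, rfl⟩ := List.mem_map.1 hr
    have h2 : l ∣ ∑ j ∈ S, dotL c (At.getD j []) := by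
      simp only [fun j => dotL_eq c (At.getD j []) le_rfl]
      rw [sum_comm]
      exact dvd_sum fun t _ => by rw [← mul_sum]; exact (hz t).mul_left _
    simp only [mul_ite, mul_one, mul_zero, List.length_map, sum_ite_mem]
    rw [inter_eq_right.2 fun j hj => mem_range.2 (hS j hj), ← Int.dvd_iff_dvd_of_dvd_sub (b := ∑ j ∈ S, dotL c (At.getD j []))] 
    · exact h2
    · rw [← sum_sub_distrib]
      refine dvd_sum fun j hj => ?_
      rw [List.getD_eq_getElem _ _ (hS j hj), List.getD_eq_getElem _ _ (by simpa using hS j hj), List.getElem_map]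
      exact Int.dvd_self_sub_emod
  refine eq_empty_of_forall_notMem fun j hj => ?_
  simpa [hj] using h1 j (by simpa [h.1] using hS j hj)

/-- the terms of the cubic identity -/
def cubT (bad : List (List ℤ)) (t₀ : ℕ) (T : List (ℕ × ℕ × ℕ)) : List (List ℤ) :=
  bad.map fun b => T.map fun t => b.getD t.1 0 * b.getD t.2.1 0 * b.getD t.2.2 0 * (b.getD t₀ 0 / 5) ^ 3

/-- **The cubic identity kills the bad vectors.**  `m χ i` is the multiplicity at the torus number `i`. -/
theorem kill_cub {α : Type*} {s : Finset α} {m : α → ℕ → ℤ} {bad C : List (List ℤ)} {t₀ : ℕ} {T : List (ℕ × ℕ × ℕ)}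
    (h : killB 5 (cubT bad t₀ T) C = true) (hd : ∀ χ ∈ s, 5 ∣ m χ t₀)
    (hb : ∀ χ ∈ s, ∃ b ∈ bad, ∃ ε : ℤ, (ε = 1 ∨ ε = -1) ∧ ∀ i, m χ i = ε * b.getD i 0)
    (hi : ∀ χ ∈ s, ∀ χ' ∈ s, ∀ ε : ℤ, (ε = 1 ∨ ε = -1) → (∀ i, m χ i = ε * m χ' i) → χ = χ')
    (hc : ∀ t ∈ T, ∑ χ ∈ s, (m χ t.1 * m χ t.2.1 * m χ t.2.2 : ZMod 5) * ((m χ t₀ / 5 : ℤ) : ZMod 5)⁻¹ = 0) : s = ∅ := by
  classical
  have h1 : ∀ χ, ∃ (j : ℕ) (ε : ℤ), χ ∈ s → j < bad.length ∧ (ε = 1 ∨ ε = -1) ∧ ∀ i, m χ i = ε * (bad.getD j []).getD i 0 :=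
    fun χ => by
      by_cases hχ : χ ∈ s
      · obtain ⟨b, h1, ε, h2⟩ := hb χ hχ
        obtain ⟨j, h3, rfl⟩ := List.getElem_of_mem h1
        exact ⟨j, ε, fun _ => ⟨h3, by rwa [List.getD_eq_getElem _ _ h3]⟩⟩
      · exact ⟨0, 0, fun e => absurd e hχ⟩
  choose β ε h1 using h1
  have h2 : Set.InjOn β s := fun χ hχ χ' hχ' e => by
    obtain ⟨-, h2, h3⟩ := h1 χ hχ
    obtain ⟨-, h4, h5⟩ := h1 χ' hχ'
    refine hi χ hχ χ' hχ' (ε χ * ε χ') (by rcases h2 with e | e <;> rcases h4 with e' | e' <;> simp [e, e']) fun i => ?_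
    rw [h3, h5, e]
    rcases h4 with e' | e' <;> simp [e']
  refine image_eq_empty.1 (kill h (S := s.image β) (fun j hj => ?_) fun t => ?_)
  · obtain ⟨χ, hχ, rfl⟩ := mem_image.1 hj
    simpa [cubT] using (h1 χ hχ).1
  rw [sum_image h2]
  by_cases ht : t < T.length
  · refine (ZMod.intCast_zmod_eq_zero_iff_dvd _ 5).1 ?_
    rw [← hc _ (List.getElem_mem ht), Int.cast_sum]
    refine sum_congr rfl fun χ hχ => ?_
    obtain ⟨h3, h4, h5⟩ := h1 χ hχ
    have h6 : ∀ a : ZMod 5, a⁻¹ = a ^ 3 := by decide +kernel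
    have h7 := hd χ hχ
    rw [cubT, List.getD_eq_getElem (List.map _ bad) _ (by simpa using h3), List.getElem_map,
      List.getD_eq_getElem (List.map _ T) _ (by simpa using ht), List.getElem_map, h6, ← List.getD_eq_getElem _ [] h3]
    simp only [h5] at h7 ⊢
    rcases h4 with e | e
    · simp [e]
    · simp only [e, neg_mul, one_mul, dvd_neg] at h7 ⊢
      rw [Int.neg_ediv_of_dvd h7]
      push_cast
      ring
  · refine dvd_sum fun χ hχ => ?_
    rw [cubT, List.getD_eq_getElem (List.map _ bad) _ (by simpa using (h1 χ hχ).1), List.getElem_map,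
      List.getD_eq_default _ _ (by simpa using ht)]
    exact dvd_zero _

end Cfsg.Agent.LV.F4
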