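import Cfsg.Agent.LV.F4.Top

/-!
# LV, `F₄`: finite facts on the Weyl group (helper84)

`fa_ck` : the orders of the tori; `fus` : fusion of the Sylow tori in the cosets; `cub_ck` : the cubic identity.
-/

set_option autoImplicit false
set_option linter.unusedSectionVars false
set_option maxRecDepth 100000

namespace Cfsg.Agent.LV.F4

open CoxeterSystem Cfsg Cfsg.Lie Cfsg.Agent.KZ.DatX Cfsg.Agent.KZ.McX Cfsg.Agent.LV.T Cfsg.Agent.Tits.Core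
  Cfsg.Agent.Tits.Exchange Cfsg.Agent.ChevalleyStructure.CoxeterGeomTypes

/-! ### polynomials -/

/-- the value of a polynomial -/
def evL (L : List ℤ) (t : ℤ) : ℤ := L.foldr (fun a s => a + t * s) 0

theorem evL_cons (a : ℤ) (L : List ℤ) (t : ℤ) : evL (a :: L) t = a + t * evL L t := rfl

theorem evL_axpy (c : ℤ) (a b : List ℤ) (t : ℤ) : evL (axpy c a b) t = c * evL a t + evL b t := by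
  induction a generalizing b with
  | nil => rw [show evL [] t = 0 from rfl, mul_zero, zero_add]; rfl
  | cons u a ih =>
    cases b with
    | nil =>
      rw [show axpy c (u :: a) [] = c * u :: axpy c a [] from rfl, evL_cons, evL_cons, ih, show evL [] t = 0 from rfl]
      ring
    | cons v b =>
      rw [show axpy c (u :: a) (v :: b) = (c * u + v) :: axpy c a b from rfl, evL_cons, evL_cons, evL_cons, ih]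
      ring

/-- the product of two polynomials -/
noncomputable def mulL (a b : List ℤ) : List ℤ := a.foldr (fun c s => axpy c b (0 :: s)) []

theorem evL_mulL (a b : List ℤ) (t : ℤ) : evL (mulL a b) t = evL a t * evL b t := by
  induction a with
  | nil => exact (zero_mul _).symm
  | cons u a ih =>
    rw [show mulL (u :: a) b = axpy u b (0 :: mulL a b) from rfl, evL_axpy, evL_cons, evL_cons, ih]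
    ring

/-- `a ^ n * g` -/
noncomputable def pwm (a : List ℤ) (n : ℕ) (g : List ℤ) : List ℤ := Nat.rec g (fun _ s => mulL a s) n

theorem evL_pwm (a : List ℤ) (n : ℕ) (g : List ℤ) (t : ℤ) : evL (pwm a n g) t = evL a t ^ n * evL g t := by
  induction n with
  | zero => rw [pow_zero, one_mul]; rfl
  | succ n ih => rw [show pwm a (n + 1) g = mulL a (pwm a n g) from rfl, evL_mulL, ih, pow_succ', mul_assoc]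

theorem evL_mod (L : List ℤ) {m s t : ℤ} (h : s ≡ t [ZMOD m]) : evL L s ≡ evL L t [ZMOD m] := by
  induction L with
  | nil => rfl
  | cons a L ih => exact (h.mul ih).add_left a

/-- the coefficients of `det (t • x - 1)` -/
def cpl (x : Matrix (Fin 4) (Fin 4) ℤ) : List ℤ := [1, -(cp4 x).1, (cp4 x).2.1, -(cp4 x).2.2.1, (cp4 x).2.2.2]

theorem evL_cpl (x : Matrix (Fin 4) (Fin 4) ℤ) (t : ℤ) : evL (cpl x) t = (t • x - 1).det := by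
  rw [det_cp4]
  simp only [cpl, evL, List.foldr]
  ring

/-! ### the data -/

/-- the triples -/
def tri : Fin 3 → List (ℕ × ℕ × ℕ) := ![
  [(1, 1, 1), (1, 1, 3), (1, 1, 4), (1, 1, 5), (1, 1, 7), (1, 1, 9), (1, 1, 11), (1, 1, 15), (1, 1, 16), (1, 1, 21), (1, 3,
  3), (1, 3, 4), (1, 3, 7), (1, 3, 9), (1, 3, 11), (1, 3, 15), (1, 3, 16), (1, 3, 21), (1, 4, 11), (1, 4, 15), (1, 4, 16), (1,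
  4, 21), (1, 5, 11), (1, 7, 11), (1, 7, 15), (1, 7, 16), (1, 7, 21), (1, 9, 11), (3, 3, 3), (3, 3, 4), (3, 3, 11), (3, 4,
  11), (3, 4, 15), (3, 4, 21), (3, 5, 11)],
  [(1, 17, 0), (1, 17, 1), (1, 17, 3), (1, 17, 4), (1, 17, 5), (1, 17, 7), (1, 17, 9), (1, 17, 11), (1, 17, 15), (1, 17, 16),
  (5, 5, 0), (5, 5, 3), (5, 5, 4), (5, 5, 5), (5, 5, 7), (5, 5, 11), (5, 5, 15), (5, 5, 16), (5, 12, 0), (5, 12, 1), (5, 12,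
  4), (5, 12, 11), (5, 12, 15), (5, 17, 0), (5, 17, 3), (5, 17, 11), (5, 17, 15), (5, 19, 11), (5, 19, 15), (7, 17, 11), (12,
  17, 0), (12, 17, 3), (12, 17, 11), (12, 17, 15), (17, 19, 11)],
  [(4, 4, 0), (22, 22, 11)]]

/-- the combinations -/
def cmb : Fin 3 → List (List ℤ) := ![
  [[], [], [], [], [], [4, 2, 0, 2, 0, 4, 0, 0, 0, 0, 2, 0, 0, 1, 0, 0, 0, 0, 0, 0, 0, 0, 0, 0, 0, 0, 0, 0, 0, 0, 0, 0, 0, 0,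
  0], [2, 3, 1, 0, 1, 4, 0, 0, 0, 0, 1, 1, 1, 4, 0, 0, 0, 0, 0, 0, 0, 0, 0, 0, 0, 0, 0, 0, 0, 0, 0, 0, 0, 0, 0], [1, 2, 4, 0,
  0, 3, 0, 1, 0, 4, 4, 4, 3, 2, 4, 0, 3, 4, 2, 0, 4, 2, 0, 3, 3, 1, 0, 0, 0, 3, 0, 0, 3, 2, 0], [2, 4, 2, 3, 0, 4, 0, 3, 0, 1,
  0, 3, 2, 3, 1, 4, 2, 1, 0, 2, 1, 3, 4, 2, 2, 4, 0, 4, 0, 3, 0, 2, 4, 3, 0], [0, 2, 1, 4, 0, 0, 2, 1, 0, 0, 0, 0, 0, 4, 0, 1,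
  0, 0, 0, 3, 0, 0, 0, 0, 0, 0, 0, 1, 0, 4, 1, 0, 3, 0, 1], [3, 3, 1, 0, 2, 0, 0, 4, 0, 1, 1, 2, 3, 3, 3, 2, 1, 1, 4, 1, 3, 3,
  0, 1, 1, 2, 0, 0, 0, 2, 0, 0, 2, 3, 0], [3, 1, 2, 0, 1, 2, 3, 1, 0, 4, 2, 1, 0, 4, 2, 3, 4, 4, 4, 4, 2, 2, 1, 4, 4, 3, 0, 0,
  0, 3, 4, 3, 3, 2, 4], [3, 2, 4, 0, 4, 1, 2, 0, 0, 0, 4, 4, 4, 1, 3, 0, 0, 0, 3, 0, 0, 0, 0, 0, 0, 0, 0, 3, 0, 0, 4, 3, 0, 0,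
  4], [4, 0, 3, 0, 2, 3, 1, 1, 2, 0, 2, 2, 3, 1, 4, 4, 3, 0, 4, 4, 3, 0, 0, 1, 1, 2, 0, 0, 0, 0, 0, 0, 0, 0, 0], [3, 1, 2, 2,
  4, 1, 1, 3, 2, 3, 3, 3, 0, 1, 4, 1, 3, 3, 4, 1, 3, 3, 0, 1, 1, 2, 0, 0, 0, 2, 0, 0, 2, 3, 0], [0, 2, 0, 2, 0, 0, 0, 4, 1, 2,
  4, 4, 3, 1, 2, 3, 4, 2, 2, 3, 4, 2, 0, 3, 3, 1, 0, 1, 0, 2, 1, 0, 1, 2, 1], [2, 1, 0, 1, 1, 4, 1, 2, 0, 0, 1, 1, 1, 0, 2, 2,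
  0, 0, 2, 2, 0, 0, 0, 0, 0, 0, 0, 1, 0, 1, 0, 2, 2, 0, 0], [0, 4, 1, 1, 0, 0, 0, 4, 0, 0, 0, 0, 2, 4, 0, 0, 0, 0, 0, 0, 0, 0,
  0, 2, 2, 0, 0, 4, 0, 1, 0, 2, 2, 0, 0], [0, 2, 1, 4, 0, 0, 2, 1, 0, 0, 0, 0, 0, 4, 0, 0, 0, 0, 0, 0, 0, 0, 0, 0, 3, 0, 0, 1,
  0, 4, 1, 0, 3, 0, 1], [0, 3, 2, 2, 0, 0, 3, 1, 0, 4, 0, 0, 0, 0, 0, 0, 0, 0, 0, 0, 0, 0, 0, 3, 3, 0, 2, 0, 0, 3, 4, 3, 3, 2,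
  4], [3, 4, 2, 3, 4, 1, 0, 4, 0, 1, 4, 4, 4, 1, 0, 0, 0, 0, 0, 0, 0, 0, 0, 0, 2, 0, 3, 0, 0, 2, 0, 0, 2, 3, 0], [4, 4, 1, 1,
  0, 2, 0, 4, 0, 1, 1, 1, 4, 1, 1, 0, 2, 1, 3, 0, 1, 3, 0, 3, 2, 1, 1, 0, 0, 2, 0, 0, 2, 3, 0], [3, 4, 3, 0, 0, 1, 0, 2, 0, 4,
  0, 2, 2, 1, 4, 1, 3, 4, 0, 3, 4, 2, 1, 3, 4, 4, 4, 1, 0, 2, 0, 3, 1, 2, 0], [0, 3, 4, 1, 0, 0, 3, 4, 0, 0, 0, 0, 0, 1, 0, 4,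
  0, 0, 0, 2, 0, 0, 0, 0, 4, 0, 0, 4, 0, 1, 4, 0, 2, 0, 4], [2, 1, 4, 4, 3, 0, 0, 1, 0, 4, 4, 3, 2, 4, 2, 3, 4, 4, 1, 4, 2, 2,
  0, 1, 2, 2, 4, 0, 0, 3, 0, 0, 3, 2, 0], [2, 0, 3, 1, 4, 3, 2, 4, 0, 1, 3, 4, 0, 4, 3, 2, 1, 1, 1, 1, 3, 3, 4, 3, 3, 3, 1, 0,
  0, 2, 1, 2, 2, 3, 1], [2, 3, 1, 0, 1, 4, 4, 0, 0, 0, 1, 1, 1, 4, 2, 0, 0, 0, 2, 0, 0, 0, 0, 2, 0, 0, 0, 3, 0, 0, 0, 0, 0, 0,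
  0], [1, 0, 3, 0, 3, 2, 1, 1, 2, 0, 3, 3, 3, 1, 1, 1, 2, 0, 1, 1, 2, 0, 0, 1, 1, 2, 0, 0, 0, 0, 0, 0, 0, 0, 0], [2, 0, 1, 4,
  1, 4, 1, 4, 2, 2, 2, 2, 2, 4, 1, 4, 2, 2, 1, 4, 2, 2, 0, 1, 4, 2, 2, 0, 0, 0, 0, 0, 0, 0, 0], [0, 1, 0, 1, 0, 0, 3, 2, 1, 3,
  1, 1, 1, 4, 3, 2, 1, 3, 3, 2, 1, 3, 0, 3, 2, 1, 3, 0, 0, 0, 0, 0, 0, 0, 0], [3, 2, 4, 0, 4, 1, 1, 3, 0, 0, 4, 4, 4, 1, 3, 3,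
  0, 0, 3, 3, 0, 0, 0, 3, 3, 0, 0, 2, 0, 0, 0, 0, 0, 0, 0], [1, 2, 0, 2, 0, 1, 0, 0, 0, 0, 3, 0, 0, 1, 0, 0, 0, 0, 0, 0, 0, 0,
  0, 0, 0, 0, 0, 0, 0, 0, 0, 0, 0, 0, 0], [4, 4, 0, 3, 0, 0, 4, 0, 0, 0, 1, 0, 0, 3, 1, 0, 0, 0, 0, 0, 0, 0, 4, 0, 0, 0, 0, 1,
  0, 0, 0, 0, 0, 0, 0], [0, 0, 0, 0, 0, 0, 1, 0, 0, 0, 0, 0, 0, 0, 4, 0, 0, 0, 0, 0, 0, 0, 1, 0, 0, 0, 0, 4, 0, 0, 0, 0, 0, 0,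
  0], [0, 0, 0, 0, 0, 0, 2, 0, 0, 0, 0, 0, 0, 0, 0, 0, 0, 0, 0, 0, 0, 0, 0, 0, 0, 0, 0, 3, 0, 0, 1, 0, 0, 0, 4], [0, 4, 4, 0,
  0, 0, 3, 0, 0, 0, 0, 0, 0, 0, 0, 0, 0, 0, 0, 0, 0, 0, 0, 0, 0, 0, 0, 2, 1, 1, 4, 0, 0, 0, 1], [0, 2, 1, 4, 0, 0, 2, 0, 0, 0,
  0, 0, 0, 4, 0, 0, 0, 0, 0, 0, 0, 0, 0, 0, 0, 0, 0, 1, 0, 4, 1, 0, 0, 0, 1], [0, 0, 0, 0, 0, 0, 3, 0, 0, 0, 0, 0, 0, 0, 0, 0,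
  0, 0, 0, 0, 0, 0, 0, 0, 0, 0, 0, 4, 0, 0, 4, 0, 0, 0, 4], [1, 4, 0, 3, 0, 0, 4, 0, 0, 0, 4, 0, 0, 3, 4, 0, 0, 0, 0, 0, 0, 0,
  1, 0, 0, 0, 0, 1, 0, 0, 0, 0, 0, 0, 0], [0, 0, 0, 0, 0, 0, 1, 0, 0, 0, 0, 0, 0, 0, 1, 0, 0, 0, 0, 0, 0, 0, 4, 0, 0, 0, 0, 4,
  0, 0, 0, 0, 0, 0, 0]],
  [[], [], [], [], [], [1, 0, 2, 0, 3, 0, 0, 0, 0, 0, 3, 1, 0, 4, 0, 0, 0, 0, 0, 0, 0, 0, 0, 0, 0, 0, 0, 0, 0, 0, 0, 0, 0, 0,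
  0], [0, 2, 0, 2, 1, 1, 4, 4, 4, 3, 0, 3, 0, 0, 0, 0, 0, 0, 0, 0, 0, 0, 0, 0, 3, 0, 0, 0, 0, 0, 0, 3, 0, 0, 0], [0, 3, 0, 2,
  1, 4, 1, 4, 4, 3, 0, 3, 0, 0, 0, 0, 0, 0, 0, 0, 0, 0, 0, 0, 2, 0, 0, 0, 0, 0, 0, 2, 0, 0, 0], [0, 0, 0, 0, 0, 0, 0, 0, 0, 0,
  0, 0, 0, 0, 0, 0, 4, 0, 0, 0, 0, 0, 0, 0, 0, 0, 0, 0, 1, 0, 0, 0, 0, 0, 0], [2, 0, 3, 4, 2, 0, 0, 4, 4, 3, 1, 4, 2, 1, 0, 2,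
  3, 4, 0, 0, 0, 0, 0, 0, 0, 0, 0, 0, 4, 0, 0, 0, 0, 0, 0], [2, 4, 1, 2, 1, 2, 2, 0, 0, 0, 2, 2, 3, 0, 4, 0, 0, 0, 2, 3, 1, 0,
  0, 1, 2, 0, 0, 0, 0, 0, 4, 3, 0, 0, 0], [4, 1, 3, 4, 2, 3, 4, 0, 0, 0, 2, 4, 0, 1, 2, 0, 0, 0, 0, 2, 1, 0, 0, 3, 3, 0, 0, 0,
  0, 0, 1, 4, 0, 0, 0], [4, 0, 0, 3, 1, 0, 0, 2, 2, 1, 4, 2, 1, 4, 0, 0, 0, 3, 2, 0, 2, 4, 4, 0, 0, 0, 0, 2, 2, 0, 0, 0, 0, 0,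
  0], [4, 0, 2, 0, 3, 0, 0, 2, 3, 4, 2, 2, 0, 2, 0, 1, 2, 2, 2, 0, 2, 0, 1, 0, 0, 0, 0, 1, 1, 4, 0, 0, 0, 0, 0], [1, 1, 3, 4,
  3, 3, 3, 1, 0, 0, 2, 0, 2, 2, 1, 4, 3, 0, 3, 2, 2, 1, 0, 4, 3, 0, 0, 2, 2, 1, 1, 2, 0, 0, 0], [1, 4, 2, 4, 3, 2, 1, 0, 0, 0,
  3, 1, 0, 4, 3, 0, 0, 0, 0, 3, 1, 0, 0, 2, 2, 0, 0, 0, 0, 0, 4, 1, 0, 0, 0], [2, 2, 1, 2, 0, 1, 3, 0, 0, 0, 1, 0, 1, 1, 0, 0,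
  0, 0, 4, 0, 4, 0, 0, 0, 3, 0, 0, 0, 0, 0, 0, 2, 0, 0, 0], [0, 2, 1, 1, 3, 1, 4, 2, 2, 4, 0, 0, 0, 0, 0, 0, 0, 0, 0, 0, 0, 0,
  0, 0, 0, 0, 0, 0, 0, 0, 0, 0, 0, 0, 0], [1, 3, 4, 2, 2, 4, 2, 0, 0, 0, 3, 4, 1, 2, 0, 0, 0, 0, 4, 0, 4, 0, 0, 0, 2, 0, 0, 0,
  0, 0, 0, 3, 0, 0, 0], [0, 3, 1, 1, 3, 4, 1, 2, 2, 4, 0, 0, 0, 0, 0, 0, 0, 0, 0, 0, 0, 0, 0, 0, 0, 0, 0, 0, 0, 0, 0, 0, 0, 0,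
  0], [0, 3, 4, 2, 0, 1, 3, 4, 4, 3, 2, 1, 3, 2, 0, 4, 4, 4, 1, 3, 1, 4, 4, 0, 0, 3, 4, 4, 4, 0, 0, 0, 1, 1, 1], [2, 0, 1, 0,
  4, 0, 0, 1, 1, 2, 1, 1, 0, 1, 0, 3, 4, 1, 1, 0, 1, 0, 1, 0, 0, 0, 1, 3, 3, 2, 0, 0, 0, 4, 0], [0, 4, 2, 0, 1, 0, 0, 0, 0, 0,
  3, 1, 3, 3, 0, 3, 2, 0, 2, 2, 2, 1, 0, 0, 2, 2, 0, 3, 3, 3, 0, 3, 4, 0, 4], [1, 2, 2, 1, 0, 4, 2, 0, 0, 1, 1, 1, 1, 0, 0, 4,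
  4, 3, 2, 2, 2, 1, 1, 0, 0, 2, 1, 0, 0, 0, 0, 0, 4, 4, 4], [4, 0, 2, 0, 3, 0, 0, 2, 0, 4, 2, 2, 0, 2, 0, 1, 0, 2, 2, 0, 2, 0,
  4, 0, 0, 0, 4, 1, 1, 4, 0, 0, 0, 1, 0], [2, 1, 3, 1, 2, 0, 0, 3, 0, 0, 3, 0, 0, 4, 0, 0, 1, 0, 0, 3, 0, 4, 0, 0, 3, 3, 0, 4,
  4, 1, 0, 2, 1, 0, 1], [3, 0, 4, 0, 1, 0, 0, 4, 4, 3, 4, 4, 0, 4, 0, 2, 1, 4, 4, 0, 4, 0, 0, 0, 0, 0, 0, 2, 1, 3, 0, 0, 0, 0,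
  0], [0, 0, 0, 0, 0, 0, 0, 0, 0, 0, 0, 0, 0, 0, 0, 0, 1, 0, 0, 0, 0, 0, 0, 0, 0, 0, 0, 3, 4, 2, 0, 0, 0, 0, 0], [3, 3, 4, 3,
  4, 1, 2, 0, 0, 0, 4, 2, 4, 2, 1, 4, 4, 0, 0, 0, 0, 0, 0, 0, 0, 1, 0, 1, 1, 0, 0, 0, 0, 0, 4], [0, 0, 0, 0, 0, 0, 0, 0, 0, 0,
  0, 0, 0, 0, 0, 1, 1, 0, 0, 0, 0, 0, 0, 0, 0, 4, 0, 4, 4, 0, 0, 0, 0, 0, 1], [3, 2, 4, 3, 4, 4, 3, 0, 0, 0, 4, 2, 4, 2, 4, 4,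
  4, 0, 0, 0, 0, 0, 0, 0, 0, 4, 0, 1, 1, 0, 0, 0, 0, 0, 1], [0, 0, 0, 0, 0, 0, 0, 0, 0, 0, 0, 0, 0, 0, 0, 1, 1, 0, 0, 0, 0, 0,
  0, 0, 0, 1, 0, 4, 4, 0, 0, 0, 0, 0, 4], [2, 3, 0, 2, 1, 0, 4, 0, 0, 0, 1, 0, 0, 3, 1, 0, 0, 0, 0, 1, 1, 0, 0, 4, 3, 0, 0, 0,
  0, 0, 1, 2, 0, 0, 0], [1, 3, 4, 1, 3, 3, 4, 0, 0, 0, 2, 3, 2, 2, 0, 2, 1, 0, 3, 1, 3, 1, 0, 0, 0, 3, 0, 4, 4, 0, 0, 0, 4, 0,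
  1], [4, 2, 4, 1, 3, 4, 4, 4, 4, 3, 1, 0, 3, 2, 3, 0, 1, 0, 2, 4, 1, 0, 1, 2, 4, 0, 4, 0, 0, 0, 4, 3, 0, 4, 0], [4, 2, 1, 4,
  2, 2, 1, 0, 0, 0, 3, 2, 3, 3, 0, 3, 3, 0, 2, 4, 2, 4, 4, 0, 0, 2, 1, 1, 1, 0, 0, 0, 1, 1, 4], [0, 2, 1, 2, 0, 0, 1, 0, 0, 0,
  0, 3, 0, 0, 4, 0, 0, 0, 0, 4, 1, 0, 0, 1, 2, 0, 0, 0, 0, 0, 4, 3, 0, 0, 0], [4, 2, 1, 4, 2, 2, 1, 4, 0, 0, 3, 2, 3, 3, 0, 3,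
  3, 0, 2, 4, 2, 0, 0, 0, 0, 2, 0, 2, 2, 4, 0, 0, 1, 0, 4], [3, 3, 3, 1, 4, 1, 1, 2, 1, 4, 3, 1, 3, 2, 2, 4, 4, 3, 0, 1, 4, 0,
  0, 3, 1, 0, 1, 4, 4, 1, 1, 2, 0, 1, 0], [0, 3, 1, 1, 1, 3, 4, 3, 3, 4, 4, 0, 2, 4, 0, 3, 3, 2, 0, 1, 0, 0, 0, 0, 0, 3, 4, 4,
  4, 0, 0, 0, 4, 4, 1]],
  [[0, 4], [2, 0]]]

/-- the factorisations -/
def fa : Fin 3 → List (ℕ × List ℤ) := ![
  [(4, [1]), (3, [-1, -1]), (3, [-1, -1]), (2, [1, 1, 1]), (2, [1, 0, 1]), (2, [1, 2, 1]), (2, [1, 1, 1]), (1, [-1, 0, 0,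
  -1]), (1, [-1, 0, 0, -1]), (1, [-1, -2, -2, -1]), (1, [-1, -2, -2, -1]), (0, [1, 0, -1, 0, 1]), (2, [1, 2, 1]), (1, [-1, -1,
  -1, -1]), (1, [-1, -1, -1, -1]), (0, [1, 0, 0, 0, 1]), (0, [1, -2, 3, -2, 1]), (1, [-1, -3, -3, -1]), (1, [-1, -3, -3, -1]),
  (0, [1, 1, 0, 1, 1]), (0, [1, 1, 0, 1, 1]), (0, [1, 0, 2, 0, 1]), (0, [1, 2, 2, 2, 1]), (0, [1, 2, 3, 2, 1]), (0, [1, 4, 6,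
  4, 1])],
  [(0, [1, -4, 6, -4, 1]), (1, [1, -3, 3, -1]), (1, [1, -3, 3, -1]), (0, [1, -1, 0, -1, 1]), (0, [1, -2, 2, -2, 1]), (2, [1,
  -2, 1]), (0, [1, -1, 0, -1, 1]), (1, [1, -2, 2, -1]), (1, [1, -2, 2, -1]), (1, [1, 0, 0, -1]), (1, [1, 0, 0, -1]), (0, [1,
  0, -1, 0, 1]), (2, [1, -2, 1]), (1, [1, -1, 1, -1]), (1, [1, -1, 1, -1]), (0, [1, 0, 0, 0, 1]), (0, [1, -2, 3, -2, 1]), (3,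
  [1, -1]), (3, [1, -1]), (2, [1, -1, 1]), (2, [1, -1, 1]), (0, [1, 0, 2, 0, 1]), (2, [1, 0, 1]), (0, [1, 2, 3, 2, 1]), (4,
  [1])],
  [(0, [1, -4, 6, -4, 1]), (0, [1, -2, 0, 2, -1]), (0, [1, -2, 0, 2, -1]), (0, [1, -1, 0, -1, 1]), (1, [1, -2, 1]), (0, [1, 0,
  -2, 0, 1]), (0, [1, -1, 0, -1, 1]), (0, [1, -1, 0, 1, -1]), (0, [1, -1, 0, 1, -1]), (0, [1, 1, 0, -1, -1]), (0, [1, 1, 0,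
  -1, -1]), (0, [1, 0, -1, 0, 1]), (0, [1, 0, -2, 0, 1]), (1, [1, 0, -1]), (1, [1, 0, -1]), (0, [1, 0, 0, 0, 1]), (0, [1, -2,
  3, -2, 1]), (0, [1, 2, 0, -2, -1]), (0, [1, 2, 0, -2, -1]), (0, [1, 1, 0, 1, 1]), (0, [1, 1, 0, 1, 1]), (2, [1]), (1, [1, 2,
  1]), (0, [1, 2, 3, 2, 1]), (0, [1, 4, 6, 4, 1])]]

/-- the classes of the Sylow tori -/
def cla : Fin 3 → List Wd := ![[[]], [[3, 2, 1, 0, 2, 1, 2, 3, 2, 1, 0, 2, 1, 2, 3, 2, 1, 0, 2, 1, 2, 0, 1, 0]],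
  [[3, 2, 1, 2, 3, 0, 2, 1, 2, 0, 1, 0], [3, 2, 1, 2, 3, 1, 0, 2, 1, 2, 1, 0], [0, 3, 2, 1, 2, 3, 0, 2, 1, 2, 0, 1], [0, 3, 2,
  1, 2, 3, 1, 0, 2, 1, 2, 1], [1, 0, 3, 2, 1, 2, 3, 0, 2, 1, 2, 0], [1, 0, 3, 2, 1, 2, 3, 1, 0, 2, 1, 2], [2, 1, 0, 3, 2, 1,
  2, 3, 2, 0, 1, 0], [2, 1, 0, 3, 2, 1, 2, 3, 1, 2, 0, 1], [1, 2, 1, 0, 3, 2, 1, 2, 3, 2, 1, 0], [1, 2, 1, 0, 3, 2, 1, 2, 3,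
  1, 2, 0], [0, 1, 2, 1, 0, 3, 2, 1, 2, 3, 2, 1], [0, 1, 2, 1, 0, 3, 2, 1, 2, 3, 1, 2]]]

/-- the cyclotomic polynomials -/
def cy : Fin 3 → List ℤ := ![[-1, 1], [1, 1], [1, 0, 1]]

/-- the residues -/
def rs : Fin 3 → List ℤ := ![[1], [4], [2, 3]]

/-- the multiplicity of the cyclotomic polynomial -/
def mu (d : Fin 3) (i : ℕ) : ℕ := ((fa d).getD i (0, [])).1

theorem exists_rs {q : ℤ} (h : ¬ 5 ∣ q) : ∃ d, q % 5 ∈ rs d := by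
  rcases (by omega : q % 5 = 1 ∨ q % 5 = 2 ∨ q % 5 = 3 ∨ q % 5 = 4) with e | e | e | e <;> rw [e] <;> decide

theorem fa_ck : ∀ d, ∀ i < 25, pwm (cy d) (mu d i) ((fa d).getD i (0, [])).2 = cpl (mW (nT.R.getD i []) 1) ∧
    mu d i ≤ mu d (t0 d) ∧ ∀ ρ ∈ rs d, ¬ 5 ∣ evL ((fa d).getD i (0, [])).2 ρ := by decide +kernel

theorem tri_ck : ∀ d, ∀ t ∈ tri d, t.1 < 25 ∧ t.2.1 < 25 ∧ t.2.2 < 25 ∧ mu d (t0 d) ≤ mu d t.1 + mu d t.2.1 := by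
  decide +kernel

theorem bad_ck : ∀ d, ∀ b ∈ bad d, b.length ≤ 25 ∧ ¬ 25 ∣ b.getD (t0 d) 0 := by decide +kernel

theorem cub_ck : ∀ d, killB 5 (cubT (bad d) (t0 d) (tri d)) (cmb d) = true := by decide +kernel

/-- the valuations of the orders of the tori -/
theorem val_det {q : ℤ} {d : Fin 3} (hd : q % 5 ∈ rs d) {i : ℕ} (hi : i < 25) (h0 : (q • ph (rep i) - 1).det.natAbs ≠ 0) :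
    (q • ph (rep i) - 1).det.natAbs.factorization 5 = mu d i * (evL (cy d) q).natAbs.factorization 5 := by
  obtain ⟨h1, -, h2⟩ := fa_ck d i hi
  rw [rep, ph_el, ← mul_one (List.prod _), ← mW_eq, ← evL_cpl, ← h1, evL_pwm, Int.natAbs_mul, Int.natAbs_pow] at h0 ⊢
  rw [Nat.factorization_mul (left_ne_zero_of_mul h0) (right_ne_zero_of_mul h0), Finsupp.add_apply, Nat.factorization_pow,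
    Nat.factorization_eq_zero_of_not_dvd fun e => h2 _ hd ?_, add_zero]
  · rfl
  · exact (evL_mod _ (Int.mod_modEq q 5)).dvd_iff.2 (Int.natCast_dvd.2 e)

/-! ### fusion -/

theorem cla_ck : ∀ d, ky (nT.R.getD (t0 d) []) ∈ (cla d).map ky ∧ ∀ L ∈ cla d, ∀ i, ky (i :: (L ++ [i])) ∈ (cla d).map ky := by
  decide +kernel

theorem exists_cla (d : Fin 3) (v : W4) : ∃ L ∈ cla d, el L = v * rep (t0 d) * v⁻¹ := by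
  obtain ⟨V, rfl⟩ := c4.wordProd_surjective v
  induction V with
  | nil =>
    obtain ⟨L, h1, h2⟩ := List.mem_map.1 (cla_ck d).1
    exact ⟨L, h1, by rw [el_eq_iff.2 h2, wordProd_nil, one_mul, inv_one, mul_one, rep]⟩
  | cons j V ih =>
    obtain ⟨t, h2, h3⟩ := ih
    obtain ⟨t', h4, h5⟩ := List.mem_map.1 ((cla_ck d).2 t h2 j)
    refine ⟨t', h4, ?_⟩
    rw [el_eq_iff.2 h5, el_cons, el_append, el_one, h3, wordProd_cons, _root_.mul_inv_rev, c4.inv_simple]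
    simp only [mul_assoc]

theorem fus_ck : ∀ b < 15, ∀ d, ∀ X ∈ cla d,
    (∀ i : Fin 4, Nat.testBit b i = true → ky (X ++ i :: X.reverse) ∈ (EB b).map ky) →
    ∀ X' ∈ cla d, ky (X' ++ X.reverse) ∈ (EB b).map ky → ∃ u ∈ EB b, ky (X ++ u) = ky (u ++ X') := by decide +kernel

theorem ky_mem {b : ℕ} (hb : b < 15) {L : Wd} (h : el L ∈ WJ c4 (sB b)) : ky L ∈ (EB b).map ky := by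
  obtain ⟨L', h1, h2⟩ := exists_EB (hb.trans (by decide)) h
  exact List.mem_map.2 ⟨L', h1, el_eq_iff.1 h2⟩

/-- two Sylow types in a coset are conjugate under the parabolic subgroup -/
theorem fus {b : ℕ} (hb : b < 15) {d : Fin 3} {w w' v v' : W4} (h1 : w = v * rep (t0 d) * v⁻¹)
    (h2 : w' = v' * rep (t0 d) * v'⁻¹) (h3 : ∀ i ∈ sB b, w * c4.simple i * w⁻¹ ∈ WJ c4 (sB b))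
    (h4 : w' * w⁻¹ ∈ WJ c4 (sB b)) : ∃ u ∈ WJ c4 (sB b), w * u = u * w' := by
  obtain ⟨X, h5, e⟩ := exists_cla d v
  obtain ⟨X', h6, e'⟩ := exists_cla d v'
  obtain rfl := e.trans h1.symm
  obtain rfl := e'.trans h2.symm
  obtain ⟨u, h7, h8⟩ := fus_ck b hb d X h5
    (fun i hi => ky_mem hb (by rw [el_append, el_cons, el_reverse, ← mul_assoc]; exact h3 i hi)) X' h6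
    (ky_mem hb (by rw [el_append, el_reverse]; exact h4))
  exact ⟨el u, el_mem (inB_of_mem h7), by rw [← el_append, ← el_append, el_eq_iff.2 h8]⟩

theorem cartan_inv : ∀ j : Fin 4, ∑ i, !![2, 3, 4, 2; 3, 6, 8, 4; 2, 4, 6, 3; 1, 2, 3, (2 : ℤ)] j i • cartanOf chevF4 4 i =
    Pi.single j 1 := by decide +kernel

end Cfsg.Agent.LV.F4
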