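import Cfsg.Agent.LV.F4.Kill

/-!
# LV: linear algebra on lists and short vectors of a lattice, in the kernel (helper84)

* `axpy`, `lc`, `cnt`, `apM`, `apT` : linear combinations, counting vectors, polynomials in a matrix;
* `coords` : coordinates in the dual lattice; `gram`, `qv` : quadratic forms;
* `fp`, `fp_sound` : the enumeration of the short vectors with a test at the leaves; `short`.
-/

set_option autoImplicit false

namespace Cfsg.Agent.LV.F4

open Finset Cfsg.Agent.KZ.TF.Flt

/-! ### forcing -/

/-- evaluate a natural number -/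
noncomputable def gN {α : Type} (n : ℕ) (f : ℕ → α) : α := Nat.rec (f 0) (fun m _ => f (Nat.succ m)) n

theorem gN_eq {α : Type} (n : ℕ) (f : ℕ → α) : gN n f = f n := by cases n <;> rfl

/-- evaluate an integer -/
noncomputable def gI {α : Type} (z : ℤ) (f : ℤ → α) : α :=
  Int.rec (fun n => gN n fun n => f (Int.ofNat n)) (fun n => gN n fun n => f (Int.negSucc n)) z

theorem gI_eq {α : Type} (z : ℤ) (f : ℤ → α) : gI z f = f z := by
  cases z with
  | ofNat n => exact gN_eq n fun n => f (Int.ofNat n)
  | negSucc n => exact gN_eq n fun n => f (Int.negSucc n)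

/-- evaluate a list -/
noncomputable def gL {α : Type} (l : List ℤ) : (List ℤ → α) → α :=
  List.rec (fun f => f []) (fun c _ ih f => gI c fun c => ih fun l => f (c :: l)) l

theorem gL_eq {α : Type} (l : List ℤ) (f : List ℤ → α) : gL l f = f l := by
  induction l generalizing f with
  | nil => rfl
  | cons c l ih => exact (gI_eq c fun c => gL l fun l => f (c :: l)).trans (ih _)

/-- evaluate a list -/
noncomputable def gLN {α : Type} (l : List ℕ) : (List ℕ → α) → α :=
  List.rec (fun f => f []) (fun c _ ih f => gN c fun c => ih fun l => f (c :: l)) l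

theorem gLN_eq {α : Type} (l : List ℕ) (f : List ℕ → α) : gLN l f = f l := by
  induction l generalizing f with
  | nil => rfl
  | cons c l ih => exact (gN_eq c fun c => gLN l fun l => f (c :: l)).trans (ih _)

/-- evaluate a list of lists -/
noncomputable def gM {α : Type} (l : List (List ℤ)) : (List (List ℤ) → α) → α :=
  List.rec (fun f => f []) (fun c _ ih f => gL c fun c => ih fun l => f (c :: l)) l

theorem gM_eq {α : Type} (l : List (List ℤ)) (f : List (List ℤ) → α) : gM l f = f l := by
  induction l generalizing f with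
  | nil => rfl
  | cons c l ih => exact (gL_eq c fun c => gM l fun l => f (c :: l)).trans (ih _)

/-! ### linear combinations -/

/-- `c • a + b` -/
noncomputable def axpy (c : ℤ) (a : List ℤ) : List ℤ → List ℤ :=
  List.rec (fun b => b) (fun u _ ih b =>
    List.rec (Int.mul c u :: ih []) (fun v b _ => Int.add (Int.mul c u) v :: ih b) b) a

theorem dotL_axpy (c : ℤ) (a b x : List ℤ) : dotL (axpy c a b) x = c * dotL a x + dotL b x := by
  induction a generalizing b x with
  | nil => rw [dotL_nil, mul_zero, zero_add]; rfl
  | cons u a ih =>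
    cases x with
    | nil => simp [dotL_nil']
    | cons y x =>
      cases b with
      | nil =>
        rw [show axpy c (u :: a) [] = c * u :: axpy c a [] from rfl, dotL_cons, dotL_cons, ih, dotL_nil, dotL_nil]
        ring
      | cons v b =>
        rw [show axpy c (u :: a) (v :: b) = (c * u + v) :: axpy c a b from rfl, dotL_cons, dotL_cons, dotL_cons, ih]
        ring

/-- the linear combination of the rows of a matrix -/
noncomputable def lc (c : List ℤ) : List (List ℤ) → List ℤ :=
  List.rec (fun _ => []) (fun u _ ih A => List.rec [] (fun a A _ => gL (ih A) fun b => bif u == 0 then b else axpy u a b) A) c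

/-- the product of a matrix and a vector -/
noncomputable def mv (A : List (List ℤ)) (x : List ℤ) : List ℤ := A.map fun a => dotL a x

theorem dotL_lc (c : List ℤ) (A : List (List ℤ)) (x : List ℤ) : dotL (lc c A) x = dotL c (mv A x) := by
  induction c generalizing A with
  | nil => rfl
  | cons u c ih =>
    cases A with
    | nil => rfl
    | cons a A =>
      rw [show lc (u :: c) (a :: A) = gL (lc c A) fun b => bif u == 0 then b else axpy u a b from rfl, gL_eq,
        show mv (a :: A) x = dotL a x :: mv A x from rfl, dotL_cons, ← ih]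
      by_cases h : u = 0
      · simp [h]
      · rw [beq_eq_false_iff_ne.2 h, cond_false, dotL_axpy]

theorem dotL_map_mul (d : ℤ) (a x : List ℤ) : dotL a (x.map (d * ·)) = d * dotL a x := by
  induction a generalizing x with
  | nil => simp [dotL_nil]
  | cons u a ih =>
    cases x with
    | nil => simp [dotL_nil']
    | cons y x => rw [List.map_cons, dotL_cons, dotL_cons, ih]; ring

theorem getD_mv (A : List (List ℤ)) (x : List ℤ) (i : ℕ) : (mv A x).getD i 0 = dotL (A.getD i []) x :=
  List.getD_map A [] (fun a => dotL a x)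

/-- `d` times a unit vector -/
def un (k i : ℕ) (d : ℤ) : List ℤ := (List.range k).map fun j => bif j == i then d else 0

theorem dotL_un {k i : ℕ} (h : i < k) (d : ℤ) (x : List ℤ) : dotL (un k i d) x = d * x.getD i 0 := by
  rw [dotL_eq _ _ (n := k) (by simp [un]), sum_eq_single i (fun j hj e => ?_) fun e => absurd (mem_range.2 h) e]
  · simp [un, h]
  · simp [un, mem_range.1 hj, beq_eq_false_iff_ne.2 e]

/-- the signed numbers of the entries of `ks` -/
noncomputable def cnt (k : ℕ) (es : List ℤ) (ks : List ℕ) : List ℤ :=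
  gL es fun es => gLN ks fun ks => (List.range k).map fun j => dotL es (ks.map fun i => bif i == j then 1 else 0)

theorem dotL_cnt {k : ℕ} (es : List ℤ) (ks : List ℕ) {x : List ℤ} (h : x.length ≤ k) :
    dotL (cnt k es ks) x = dotL es (ks.map fun i => x.getD i 0) := by
  rw [cnt, gL_eq, gLN_eq, dotL_eq _ _ (n := k) (by simp)]
  rw [sum_congr rfl (g := fun j => dotL es (ks.map fun i => bif i == j then 1 else 0) * x.getD j 0) fun j hj => by
    simp [mem_range.1 hj]]
  induction es generalizing ks with
  | nil => simp [dotL_nil]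
  | cons e es ih =>
    cases ks with
    | nil => simp [dotL_nil']
    | cons i ks =>
      simp only [List.map_cons, dotL_cons, add_mul, sum_add_distrib, ih]
      congr 1
      by_cases hi : i < k
      · rw [sum_eq_single i (fun j _ e => by simp [beq_eq_false_iff_ne.2 (Ne.symm e)]) fun e => absurd (mem_range.2 hi) e]
        simp
      · rw [List.getD_eq_default _ _ (by omega), mul_zero]
        exact sum_eq_zero fun j hj => by
          simp [beq_eq_false_iff_ne.2 (show i ≠ j from fun e => hi (e ▸ mem_range.1 hj))]

/-- `∏ (A - c) x` -/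
noncomputable def apM (A : List (List ℤ)) (L x : List ℤ) : List ℤ := L.foldr (fun c y => axpy (-c) y (mv A y)) x

/-- `a ∏ (A - c)` -/
noncomputable def apT (A : List (List ℤ)) (L : List ℤ) : List ℤ → List ℤ :=
  List.rec (fun a => a) (fun c _ ih a => gL (axpy (-c) a (lc a A)) ih) L

theorem dotL_apT (A : List (List ℤ)) (L a x : List ℤ) : dotL (apT A L a) x = dotL a (apM A L x) := by
  induction L generalizing a x with
  | nil => rfl
  | cons c L ih =>
    rw [show apT A (c :: L) a = gL (axpy (-c) a (lc a A)) (apT A L) from rfl, gL_eq, ih, dotL_axpy, dotL_lc,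
      show apM A (c :: L) x = axpy (-c) (apM A L x) (mv A (apM A L x)) from rfl, dotL_comm a (axpy _ _ _), dotL_axpy,
      dotL_comm a (mv _ _), dotL_comm a]

theorem getD_axpy (c : ℤ) (a b : List ℤ) (i : ℕ) : (axpy c a b).getD i 0 = c * a.getD i 0 + b.getD i 0 := by
  have h := fun l => (dotL_comm l _).trans (dotL_un (Nat.lt_succ_self i) 1 l)
  simpa only [h, one_mul] using dotL_axpy c a b (un (i + 1) i 1)

theorem length_axpy (c : ℤ) (a b : List ℤ) : (axpy c a b).length = max a.length b.length := by
  induction a generalizing b with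
  | nil => exact (Nat.zero_max _).symm
  | cons u a ih =>
    cases b with
    | nil => rw [show axpy c (u :: a) [] = c * u :: axpy c a [] from rfl]; simp [ih]
    | cons v b => rw [show axpy c (u :: a) (v :: b) = (c * u + v) :: axpy c a b from rfl]; simp [ih]

theorem length_apM {A : List (List ℤ)} {x : List ℤ} {k : ℕ} (hA : A.length ≤ k) (hx : x.length ≤ k) (L : List ℤ) :
    (apM A L x).length ≤ k := by
  induction L with
  | nil => exact hx
  | cons c L ih =>
    rw [show apM A (c :: L) x = axpy (-c) (apM A L x) (mv A (apM A L x)) from rfl, length_axpy, mv, List.length_map]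
    exact max_le ih hA

/-! ### coordinates -/

/-- the certificate for the coordinates: `S` the relations `md ∣ v ⬝ z` -/
noncomputable def coB (S : List (ℤ × List ℤ)) (d : ℤ) (U B : List (List ℤ)) : Bool :=
  d != 0 && S.all (fun r => d % r.1 == 0) && gM (S.map fun r => axpy (d / r.1) r.2 []) fun S =>
    gM (U.map fun u => lc u S) fun Λ => (List.range B.length).all fun i => lc (B.getD i []) Λ == un B.length i d

theorem coords {S : List (ℤ × List ℤ)} {d : ℤ} {U B : List (List ℤ)} (h : coB S d U B = true) {z : List ℤ}
    (hz : z.length = B.length) (hS : ∀ r ∈ S, r.1 ∣ dotL r.2 z) : ∃ x : List ℤ, x.length = U.length ∧ z = mv B x := by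
  simp only [coB, gM_eq, Bool.and_eq_true, bne_iff_ne, List.all_eq_true, beq_iff_eq, List.mem_range] at h
  obtain ⟨⟨h0, h1⟩, h2⟩ := h
  have h3 : mv (S.map fun r => axpy (d / r.1) r.2 []) z = (S.map fun r => dotL r.2 z / r.1).map (d * ·) := by
    rw [mv, List.map_map, List.map_map]
    refine List.map_congr_left fun r hr => ?_
    obtain ⟨a, ha⟩ := hS r hr
    obtain ⟨b, hb⟩ := Int.dvd_of_emod_eq_zero (h1 r hr)
    have h4 : r.1 ≠ 0 := fun e => h0 (by rw [hb, e, zero_mul])
    show dotL (axpy _ _ _) z = d * (dotL r.2 z / r.1)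
    rw [dotL_axpy, dotL_nil, ha, hb, Int.mul_ediv_cancel_left _ h4, Int.mul_ediv_cancel_left _ h4]
    ring
  refine ⟨mv U (S.map fun r => dotL r.2 z / r.1), by simp [mv], List.ext_getElem (by simp [mv, hz]) fun i h4 h5 => ?_⟩
  have h6 := congrArg (dotL · z) (h2 i (hz ▸ h4))
  have h7 : mv (U.map fun u => lc u (S.map fun r => axpy (d / r.1) r.2 [])) z =
      (mv U (S.map fun r => dotL r.2 z / r.1)).map (d * ·) := by
    rw [mv, mv, List.map_map, List.map_map]
    exact List.map_congr_left fun u _ => by
      show dotL (lc _ _) z = d * _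
      rw [dotL_lc, h3, dotL_map_mul]
  simp only [dotL_lc, h7, dotL_map_mul, dotL_un (hz ▸ h4)] at h6
  rw [← List.getD_eq_getElem _ 0 h4, ← List.getD_eq_getElem _ 0 h5, getD_mv, mul_left_cancel₀ h0 h6]

/-! ### quadratic forms -/

/-- `G + w • r ⊗ r₀` -/
noncomputable def out (w : ℤ) (r₀ r : List ℤ) : List (List ℤ) → List (List ℤ) :=
  List.rec (fun G => G) (fun u _ ih G =>
    List.rec (axpy (w * u) r₀ [] :: ih []) (fun g G _ => axpy (w * u) r₀ g :: ih G) G) r

theorem dotL_out (w : ℤ) (r₀ r : List ℤ) (G : List (List ℤ)) (x y : List ℤ) :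
    dotL (mv (out w r₀ r G) x) y = w * dotL r₀ x * dotL r y + dotL (mv G x) y := by
  induction r generalizing G y with
  | nil => rw [dotL_nil, mul_zero, zero_add]; rfl
  | cons u r ih =>
    cases y with
    | nil => simp [dotL_nil']
    | cons v y =>
      cases G with
      | nil =>
        rw [show mv (out w r₀ (u :: r) []) x = dotL (axpy (w * u) r₀ []) x :: mv (out w r₀ r []) x from rfl, dotL_cons,
          dotL_cons, ih, dotL_axpy, show mv [] x = [] from rfl, dotL_nil, dotL_nil, dotL_nil]
        ring
      | cons g G =>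
        rw [show mv (out w r₀ (u :: r) (g :: G)) x = dotL (axpy (w * u) r₀ g) x :: mv (out w r₀ r G) x from rfl,
          show mv (g :: G) x = dotL g x :: mv G x from rfl, dotL_cons, dotL_cons, dotL_cons, ih, dotL_axpy]
        ring

/-- the matrix of a weighted sum of squares -/
noncomputable def gram (R : List (ℤ × List ℤ)) : List (List ℤ) :=
  List.rec [] (fun r _ ih => gM ih fun G => out r.1 r.2 r.2 G) R

/-- a weighted sum of squares -/
noncomputable def qv (R : List (ℤ × List ℤ)) (x : List ℤ) : ℤ := (R.map fun r => r.1 * dotL r.2 x ^ 2).sum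

theorem qv_eq (R : List (ℤ × List ℤ)) (x : List ℤ) : qv R x = dotL (mv (gram R) x) x := by
  induction R with
  | nil => rfl
  | cons r R ih =>
    rw [show gram (r :: R) = gM (gram R) fun G => out r.1 r.2 r.2 G from rfl, gM_eq, dotL_out, ← ih, qv, qv, List.map_cons,
      List.sum_cons]
    ring

/-! ### the enumeration -/

/-- a bounded quantifier -/
noncomputable def alN (n : ℕ) (f : ℕ → Bool) : Bool := Nat.rec true (fun m ih => f m && ih) n

theorem alN_iff {n : ℕ} {f : ℕ → Bool} : alN n f = true ↔ ∀ i < n, f i = true := by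
  induction n with
  | zero => exact ⟨fun _ _ h => absurd h (Nat.not_lt_zero _), fun _ => rfl⟩
  | succ n ih =>
    rw [show alN (n + 1) f = (f n && alN n f) from rfl, Bool.and_eq_true, ih, Nat.forall_lt_succ_right, and_comm]

/-- the weight, the half width of the window, the diagonal entry and the other entries of a row -/
abbrev Rw : Type := ℤ × ℕ × ℤ × List ℤ

/-- the enumeration -/
noncomputable def fp (P : List ℤ → ℤ → Bool) (b : ℤ) (R : List Rw) : List ℤ → ℤ → Bool :=
  List.rec P (fun r _ ih x s => gI (dotL r.2.2.2 x) fun z => gI (z / r.2.2.1 + r.2.1) fun q => alN (2 * r.2.1) fun t =>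
    gI (Int.ofNat t - q) fun n => gI (z + r.2.2.1 * n) fun e => gI (s + r.1 * (e * e)) fun s' =>
      decide (b < s') || gL (x ++ [n]) fun x' => ih x' s') R

/-- the shape of the rows -/
noncomputable def okR (b : ℤ) (R : List Rw) : ℕ → Bool :=
  List.rec (fun _ => true) (fun r _ ih i => decide (0 ≤ r.1) && decide (0 < r.2.2.1) &&
    decide (b < r.1 * (r.2.1 * r.2.2.1) ^ 2) && r.2.2.2.length == i && ih (i + 1)) R

/-- the rows as squares -/
def sqR (R : List Rw) : List (ℤ × List ℤ) := R.map fun r => (r.1, r.2.2.2 ++ [r.2.2.1])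

theorem dotL_append (a x : List ℤ) (h : a.length = x.length) (b y : List ℤ) :
    dotL (a ++ b) (x ++ y) = dotL a x + dotL b y := by
  induction a generalizing x with
  | nil =>
    cases x with
    | nil => simp [dotL_nil]
    | cons _ _ => cases h
  | cons u a ih =>
    cases x with
    | nil => cases h
    | cons v x => rw [List.cons_append, List.cons_append, dotL_cons, dotL_cons, ih x (Nat.succ.inj h), add_assoc]

theorem qv_nonneg {b : ℤ} {R : List Rw} {i : ℕ} (h : okR b R i = true) (x : List ℤ) : 0 ≤ qv (sqR R) x := by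
  induction R generalizing i with
  | nil => exact le_rfl
  | cons r R ih =>
    have h1 : (decide (0 ≤ r.1) && decide (0 < r.2.2.1) && decide (b < r.1 * (r.2.1 * r.2.2.1) ^ 2) &&
      r.2.2.2.length == i && okR b R (i + 1)) = true := h
    simp only [Bool.and_eq_true, decide_eq_true_eq] at h1
    exact add_nonneg (mul_nonneg h1.1.1.1.1 (sq_nonneg _)) (ih h1.2)

theorem fp_sound {P : List ℤ → ℤ → Bool} {b : ℤ} (R : List Rw) (x y : List ℤ) (s : ℤ) (hs : 0 ≤ s)
    (h : fp P b R x s = true) (hR : okR b R x.length = true) (hy : y.length = R.length)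
    (hb : s + qv (sqR R) (x ++ y) ≤ b) : P (x ++ y) (s + qv (sqR R) (x ++ y)) = true := by
  induction R generalizing x y s with
  | nil =>
    rw [List.length_eq_zero_iff.1 hy, List.append_nil, show qv (sqR []) x = 0 from rfl, add_zero]
    exact h
  | cons r R ih =>
    obtain ⟨ω, m, a, r⟩ := r
    cases y with
    | nil => cases hy
    | cons n y =>
      have h1 : (decide (0 ≤ ω) && decide (0 < a) && decide (b < ω * (m * a) ^ 2) && r.length == x.length &&
        okR b R (x.length + 1)) = true := hR
      have h2 : (gI (dotL r x) fun z => gI (z / a + m) fun q => alN (2 * m) fun t =>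
        gI (Int.ofNat t - q) fun n => gI (z + a * n) fun e => gI (s + ω * (e * e)) fun s' =>
          decide (b < s') || gL (x ++ [n]) fun x' => fp P b R x' s') = true := h
      simp only [Bool.and_eq_true, decide_eq_true_eq, beq_iff_eq] at h1
      simp only [gI_eq, gL_eq, alN_iff, Bool.or_eq_true, decide_eq_true_eq] at h2
      obtain ⟨⟨⟨⟨h3, h4⟩, h5⟩, h6⟩, h7⟩ := h1
      have h8 : qv (sqR ((ω, m, a, r) :: R)) (x ++ n :: y) =
          ω * ((dotL r x + a * n) * (dotL r x + a * n)) + qv (sqR R) (x ++ n :: y) := by
        rw [← sq, show dotL r x + a * n = dotL (r ++ [a]) (x ++ n :: y) by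
          rw [dotL_append _ _ h6, dotL_cons, dotL_nil, add_zero]]
        rfl
      have h9 := qv_nonneg h7 (x ++ n :: y)
      rw [h8, ← add_assoc] at hb ⊢
      generalize dotL r x = z at h2 hb ⊢
      have h10 : 0 ≤ n + (z / a + m) ∧ n + (z / a + m) < 2 * m := by
        by_contra h11
        have e2 : z + a * n = z % a + a * (n + z / a) := by rw [Int.emod_def]; ring
        have e3 := Int.emod_nonneg z h4.ne'
        have e4 := Int.emod_lt_of_pos z h4
        have e5 : (m * a) ^ 2 ≤ (z + a * n) ^ 2 := by
          rw [e2]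
          rcases (by omega : (m : ℤ) ≤ n + z / a ∨ n + z / a + 1 ≤ -m) with e | e
          · exact pow_le_pow_left₀ (by positivity) (by nlinarith) 2
          · rw [← neg_sq (z % a + _)]
            exact pow_le_pow_left₀ (by positivity) (by nlinarith) 2
        have e6 := mul_le_mul_of_nonneg_left e5 h3
        rw [← sq] at hb
        omega
      obtain ⟨t, ht⟩ := Int.eq_ofNat_of_zero_le h10.1
      have h11 := h2 t (by omega)
      rw [show Int.ofNat t - (z / a + m) = n by rw [Int.ofNat_eq_natCast, ← ht]; ring] at h11
      have h12 := ih (x ++ [n]) y _ (add_nonneg hs (mul_nonneg h3 (mul_self_nonneg _))) (h11.resolve_left (by omega))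
        (by rwa [List.length_append]) (Nat.succ.inj hy) (by rwa [List.append_assoc])
      rwa [List.append_assoc] at h12

/-- the certificate for the quadratic form -/
noncomputable def quB (s : List ℤ) (B : List (List ℤ)) (b : ℤ) (R : List Rw) : Bool :=
  okR b R 0 && gram (s.zip B) == gram (sqR R)

theorem qv_zip (s : List ℤ) (B : List (List ℤ)) (x : List ℤ) : qv (s.zip B) x = dotL s ((mv B x).map (· ^ 2)) := by
  induction s generalizing B with
  | nil => rfl
  | cons a s ih =>
    cases B with
    | nil => rfl
    | cons r B => exact congrArg (a * dotL r x ^ 2 + ·) (ih B)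

/-- **short vectors** -/
theorem short {s : List ℤ} {B : List (List ℤ)} {b : ℤ} {R : List Rw} (h : quB s B b R = true) {P : List ℤ → ℤ → Bool}
    (hP : fp P b R [] 0 = true) {x : List ℤ} (hx : x.length = R.length) (hb : dotL s ((mv B x).map (· ^ 2)) ≤ b) :
    P x (dotL s ((mv B x).map (· ^ 2))) = true := by
  simp only [quB, Bool.and_eq_true, beq_iff_eq] at h
  rw [← qv_zip, qv_eq, h.2, ← qv_eq] at hb ⊢
  simpa using fp_sound R [] x 0 le_rfl hP h.1 hx (by simpa using hb)

end Cfsg.Agent.LV.F4
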