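import Cfsg.Agent.LV.F4.W

/-!
# LV, `F₄`: functions on a coset of a parabolic subgroup (helper84)

`Nd` : the certificate for a coset `W_K w`; `Nd.val` : the classes; `Nd.node` : coordinates and short vectors;
`Nd.gs_small`, `Nd.gs_top` : the level projections which are used.
-/

set_option autoImplicit false
set_option linter.unusedSectionVars false

namespace Cfsg.Agent.LV.F4

open CoxeterSystem Cfsg Cfsg.Agent.LV.T Cfsg.Agent.Tits.Core Cfsg.Agent.Tits.Exchange Polynomial

/-- a relation: the subset, the coset, the sign, the roots and the denominator of the polynomial -/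
abbrev Rl : Type := ℕ × Wd × ℤ × List ℤ × ℤ

/-- The certificate for a coset. -/
structure Nd where
  b : ℕ
  σ : Fin 4 → Fin 4
  R : List Wd
  cj : List Wd
  T : ℕ
  m : ℕ
  M : List (List ℤ)
  rel : List Rl
  d : ℤ
  U : List (List ℤ)
  B : List (List ℤ)
  c : ℤ
  rw : List Rw

/-- the word with the given code -/
noncomputable def dc (f : ℕ) : ℕ → Wd :=
  Nat.rec (fun _ => []) (fun _ ih n => bif Nat.ble n 1 then [] else Fin.ofNat 4 n :: ih (Nat.div n 4)) f

/-- invariance under conjugation -/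
def Inv (b : ℕ) (y : W4 → ℂ) : Prop := ∀ x ∈ WJ c4 (sB b), ∀ u, y (x * u * x⁻¹) = y u

theorem aut_one : Aut c4 1 := fun i => ⟨i, rfl⟩

theorem sum_dot {α : Type} (l : List α) (e z : α → ℤ) :
    (l.map fun a => (e a : ℂ) * z a).sum = (dotL (l.map e) (l.map z) : ℤ) := by
  induction l with
  | nil => simp [dotL_nil]
  | cons a l ih => rw [List.map_cons, List.map_cons, List.map_cons, List.sum_cons, dotL_cons, ih]; push_cast; rfl

theorem eps_el {ε : ℂ} (h : ε * ε = 1) [Fintype W4] (L : Wd) : ε ^ c4.length (el L) = ε ^ L.length := by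
  induction L with
  | nil => rw [el_nil, c4.length_one]; rfl
  | cons i L ih => rw [el_cons, eps_mul h, ih, c4.length_simple, List.length_cons, pow_one, pow_succ']

namespace Nd

variable (N : Nd)

/-- the number of the class of a word -/
noncomputable def κ (L : Wd) : ℕ := Nat.mod (Nat.shiftRight N.T (Nat.mul 5 (Nat.mod (ky L) N.m))) 32

/-- the test for the classes -/
noncomputable def clB : Bool :=
  decide (N.b < 16) && N.cj.length == (EB N.b).length && N.R.all (inB N.b) && ((EB N.b).zip N.cj).all fun a =>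
    inB N.b a.2 && gN (N.κ a.1) fun j => decide (j < N.R.length) && ky (a.2 ++ a.1) == ky (N.R.getD j [] ++ a.2.map N.σ)

/-- the vector of a relation -/
noncomputable def rv (r : Rl) : ℤ × List ℤ :=
  (r.2.2.2.2 * (EB r.1).length, apT N.M r.2.2.2.1
    (cnt N.R.length ((EB r.1).map fun u => r.2.2.1 ^ u.length) ((EB r.1).map fun u => N.κ (u ++ r.2.1))))

/-- the test for a relation -/
noncomputable def rlB (r : Rl) : Bool :=
  decide (r.1 < 16) && inB N.b r.2.1 && r.2.2.1 * r.2.2.1 == 1 && (List.finRange 4).all fun i => !r.1.testBit i ||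
    (N.b.testBit i && (List.finRange 4).any fun j => r.1.testBit j && ky (r.2.1 ++ [N.σ i]) == ky (j :: r.2.1))

/-- the weights of the classes -/
noncomputable def wt : List ℤ := cnt N.R.length ((EB N.b).map fun _ => N.c) ((EB N.b).map N.κ)

/-- the bound -/
def bd : ℤ := N.c * (EB N.b).length

/-- the test for the lattice -/
noncomputable def laB : Bool :=
  decide (0 < N.c) && decide (N.M.length ≤ N.R.length) && N.B.length == N.R.length && N.U.length == N.rw.length &&
    N.rel.all N.rlB && coB (N.rel.map N.rv) N.d N.U N.B && gL N.wt fun s => quB s N.B N.bd N.rw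

variable (w : W4)

/-- `Z` is the list of the values on the classes -/
def Rp (y : W4 → ℂ) (Z : List ℤ) : Prop := ∀ j < N.R.length, y (el (N.R.getD j []) * w) = Z.getD j 0

/-- `w` acts on the simple reflections by `σ` -/
def Sg : Prop := ∀ i : Fin 4, N.b.testBit i = true → w * c4.simple i = c4.simple (N.σ i) * w

variable {N w}

theorem Sg.word (h : N.Sg w) {L : Wd} (hL : inB N.b L = true) : w * el L = el (L.map N.σ) * w := by
  induction L with
  | nil => simp [el_nil]
  | cons i L ih =>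
    rw [inB, List.all_cons, Bool.and_eq_true] at hL
    rw [List.map_cons, el_cons, el_cons, ← mul_assoc, h i hL.1, mul_assoc, ih hL.2, mul_assoc]

theorem lt (h : N.clB = true) : N.b < 16 := by
  simp only [clB, Bool.and_eq_true, decide_eq_true_eq] at h
  exact h.1.1.1

theorem exists_cj (h : N.clB = true) {L : Wd} (hL : inB N.b L = true) : N.κ L < N.R.length ∧
    ∃ v, inB N.b v = true ∧ el v * el L = el (N.R.getD (N.κ L) []) * el (v.map N.σ) := by
  obtain ⟨L', h1, h2⟩ := exists_EB (lt h) (el_mem hL)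
  simp only [clB, gN_eq, Bool.and_eq_true, decide_eq_true_eq, beq_iff_eq, List.all_eq_true] at h
  obtain ⟨n, h3, rfl⟩ := List.getElem_of_mem h1
  have h4 := h.2 (_, _) (List.getElem_zip (l := EB N.b) (l' := N.cj) (i := n) (h := by simp [h.1.1.2, h3]) ▸
    List.getElem_mem _)
  have h5 : N.κ L = N.κ (EB N.b)[n] := by rw [κ, κ, el_eq_iff.1 h2]
  rw [h5, ← h2]
  exact ⟨h4.2.1, _, h4.1, by rw [← el_append, ← el_append, el_eq_iff.2 h4.2.2]⟩

/-- the values on the coset -/
theorem val (h : N.clB = true) (hw : N.Sg w) {y : W4 → ℂ} (hy : Inv N.b y) {Z : List ℤ} (hZ : N.Rp w y Z) {L : Wd}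
    (hL : inB N.b L = true) : y (el L * w) = Z.getD (N.κ L) 0 := by
  obtain ⟨h1, v, h2, h3⟩ := exists_cj h hL
  rw [← hZ _ h1, ← hy _ (el_mem h2), ← mul_assoc, h3, mul_assoc _ _ w, ← hw.word h2, ← mul_assoc, mul_inv_cancel_right]

variable [Fintype W4]

variable (N w) in
/-- the level projections which occur in the relations -/
def Gs (y : W4 → ℂ) : Prop := ∀ Z, Z.length ≤ N.R.length → N.Rp w y Z → ∀ r ∈ N.rel, ∃ g, Lv c4 1 (sB N.b) w g ∧ Inv N.b g ∧
  N.Rp w (fun u => r.2.2.2.2 * g u) (apM N.M r.2.2.2.1 Z)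

theorem dvd_rv (h : N.clB = true) (hw : N.Sg w) {r : Rl} (hr : N.rlB r = true) {g : W4 → ℂ}
    (h1 : Lv c4 1 (sB N.b) w g) (h2 : Inv N.b g) {Z : List ℤ} (hZ : (apM N.M r.2.2.2.1 Z).length ≤ N.R.length)
    (h3 : N.Rp w (fun u => r.2.2.2.2 * g u) (apM N.M r.2.2.2.1 Z)) : (N.rv r).1 ∣ dotL (N.rv r).2 Z := by
  classical
  obtain ⟨b, x, ε, L, d⟩ := r
  simp only [rlB, Bool.and_eq_true, decide_eq_true_eq, beq_iff_eq, List.all_eq_true, List.any_eq_true, List.mem_finRange,
    true_imp_iff, true_and, Bool.or_eq_true, Bool.not_eq_true'] at hr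
  obtain ⟨⟨⟨h4, h5⟩, h6⟩, h7⟩ := hr
  have h8 : ∀ i ∈ sB b, _ := fun i hi => (h7 i).resolve_left (by simpa [sB] using hi)
  obtain ⟨n, hn⟩ := (h1.mono (J' := sB b) (fun i hi => (h8 i hi).1) (el_mem h5)).eps aut_one (fun i hi => by
    obtain ⟨h9, j, h10, h11⟩ := h8 i hi
    have h12 := el_eq_iff.2 h11
    rw [el_append, el_one, el_cons] at h12
    rw [MulAut.one_apply, mul_assoc (el x), hw i h9, ← mul_assoc, h12, mul_assoc _ (el x), mul_inv_cancel_right]
    exact simple_mem_WJ c4 h10) h6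
  have h9 : (ε : ℂ) * ε = 1 := by exact_mod_cast h6
  refine ⟨n, ?_⟩
  have h10 := congrArg ((d : ℂ) * ·) hn
  rw [sum_WJ h4 fun u => (ε : ℂ) ^ c4.length u * g (u * (el x * w)), card_WJ h4, ← List.sum_map_mul_left,
    List.map_congr_left (g := fun u => ((ε ^ u.length : ℤ) : ℂ) * ((apM N.M L Z).getD (N.κ (u ++ x)) 0 : ℤ)) fun u hu => by
      rw [← val h hw (y := fun u => d * g u) (fun x hx u => congrArg _ (h2 x hx u)) h3 (inB_append (List.all_eq_true.2 fun i hi =>
        (h8 i (List.all_eq_true.1 (inB_of_mem hu) i hi)).1) h5), eps_el h9, el_append, mul_assoc (el u), Int.cast_pow,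
        mul_left_comm], sum_dot] at h10
  show dotL (apT _ _ _) Z = d * _ * n
  rw [dotL_apT, dotL_cnt _ _ hZ, List.map_map]
  have h11 : ((d * (EB b).length * n : ℤ) : ℂ) = d * (n * (EB b).length) := by push_cast; ring
  exact_mod_cast h10.trans h11.symm

/-- **A coset**: the values come from a short vector. -/
theorem node (h : N.clB = true) (h' : N.laB = true) {P : List ℤ → ℤ → Bool} (hP : fp P N.bd N.rw [] 0 = true)
    (hw : N.Sg w) {y : W4 → ℂ} (h1 : Lv c4 1 (sB N.b) w y) (h2 : Inv N.b y) (h3 : N.Gs w y) [Fintype (WJ c4 (sB N.b))]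
    {ν : ℝ} (hν : ν = (Nat.card (WJ c4 (sB N.b)) : ℝ)⁻¹ * ∑ x : WJ c4 (sB N.b), ‖y (x * w)‖ ^ 2) (h4 : ν ≤ 1) :
    ∃ x s, P x s = true ∧ 0 < N.bd ∧ (s : ℝ) = N.bd * ν ∧ N.Rp w y (mv N.B x) := by
  have h5 : ∀ j, ∃ n : ℤ, j < N.R.length → y (el (N.R.getD j []) * w) = n := fun j => by
    by_cases hj : j < N.R.length
    · simp only [clB, Bool.and_eq_true, List.all_eq_true] at h
      exact (h1.int (el_mem (h.1.2 _ (by rw [List.getD_eq_getElem _ _ hj]; exact List.getElem_mem _)))).imp fun _ e _ => e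
    · exact ⟨0, fun e => absurd e hj⟩
  choose z hz using h5
  have h6 : N.Rp w y ((List.range N.R.length).map z) := fun j hj => by
    rw [hz j hj, List.getD_eq_getElem _ _ (by simpa using hj), List.getElem_map, List.getElem_range]
  simp only [laB, gL_eq, Bool.and_eq_true, decide_eq_true_eq, beq_iff_eq, List.all_eq_true] at h'
  obtain ⟨⟨⟨⟨⟨⟨h7, h8⟩, h9⟩, h10⟩, h11⟩, h12⟩, h13⟩ := h'
  obtain ⟨x, h14, h15⟩ := coords h12 (z := (List.range N.R.length).map z) (by simp [h9]) fun r hr => by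
    obtain ⟨r, hr', rfl⟩ := List.mem_map.1 hr
    obtain ⟨g, e1, e2, e3⟩ := h3 _ (by simp) h6 r hr'
    exact dvd_rv h hw (h11 r hr') e1 e2 (length_apM h8 (by simp) _) e3
  rw [h15] at h6
  have h16 : (0 : ℝ) < (EB N.b).length := by
    rw [← card_WJ (lt h)]
    exact Nat.cast_pos.2 Nat.card_pos
  have h17 : ((dotL N.wt ((mv N.B x).map (· ^ 2)) : ℤ) : ℝ) = N.bd * ν := by
    rw [hν, card_WJ (lt h), bd, Int.cast_mul, Int.cast_natCast, mul_assoc, mul_inv_cancel_left₀ h16.ne',
      sum_WJ (lt h) fun u => ‖y (u * w)‖ ^ 2, wt, dotL_cnt _ _ (by simp [mv, h9]), List.map_map,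
      ← List.sum_map_mul_left, ← Complex.ofReal_inj, Complex.ofReal_intCast, ← sum_dot,
      ← Complex.ofRealHom_eq_coe (List.sum _), map_list_sum, List.map_map]
    refine congrArg _ (List.map_congr_left fun u hu => ?_)
    have e := List.getD_map (mv N.B x) 0 (n := N.κ u) (· ^ 2)
    rw [zero_pow two_ne_zero] at e
    simp only [Function.comp_apply, val h hw h2 h6 (inB_of_mem hu), e, Complex.norm_intCast, sq_abs,
      Complex.ofRealHom_eq_coe]
    push_cast
    rfl
  have h18 : 0 < N.bd := mul_pos h7 (by exact_mod_cast h16)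
  refine ⟨x, _, short h13 hP (h14.trans h10) ?_, h18, h17, h6⟩
  have h19 : (0 : ℝ) < N.bd := by exact_mod_cast h18
  exact_mod_cast h17.trans_le (mul_le_of_le_one_right h19.le h4)

theorem gs_small (h : ∀ r ∈ N.rel, r.2.2.2 = ([], 1)) {y : W4 → ℂ} (h1 : Lv c4 1 (sB N.b) w y) (h2 : Inv N.b y) :
    N.Gs w y := fun Z _ hZ r hr => ⟨y, h1, h2, by
  rw [h r hr]
  simpa [apM] using hZ⟩

/-- the test for the level projections -/
noncomputable def toB (N : Nd) (S : List ℤ) : Bool :=
  N.b == 15 && (List.finRange 4).all (fun i => N.σ i == i) && decide S.Nodup &&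
    N.M == N.R.map (fun r => cnt N.R.length (RL.map fun _ => 1) (RL.map fun t => N.κ (t ++ r))) &&
    (List.range N.R.length).all (fun j => (apT N.M S (un N.R.length j 1)).all (· == 0)) &&
    N.rel.all fun r => r.2.2.2.2 != 0 && S.all fun a => (r.2.2.2.1.map (a - ·)).prod % r.2.2.2.2 == 0

/-- the polynomial with the given roots -/
noncomputable def pl (L : List ℤ) : ℂ[X] := (L.map fun c : ℤ => X - C (c : ℂ)).prod

theorem dotL_zero {a : List ℤ} (h : a.all (· == 0) = true) (x : List ℤ) : dotL a x = 0 := by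
  rw [dotL_eq _ _ le_rfl]
  refine Finset.sum_eq_zero fun j hj => ?_
  rw [List.getD_eq_getElem _ _ (Finset.mem_range.1 hj), beq_iff_eq.1 (List.all_eq_true.1 h _ (List.getElem_mem _)), zero_mul]

theorem inv_aeval {y : W4 → ℂ} (h : Inv 15 y) (P : ℂ[X]) : Inv 15 (aeval (cas c4 (sB 15)) P y) := fun x hx u =>
  aeval_cas_conj (fun _ => by simp [sB_top, WJ_univ]) _ (h x hx) P u

theorem gs_top (h : N.clB = true) {S : List ℤ} (h' : N.toB S = true) {y : W4 → ℂ} (h1 : Lv c4 1 (sB N.b) 1 y)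
    (h2 : Inv N.b y) : N.Gs 1 y := fun Z e hZ r hr => by
  classical
  simp only [toB, Bool.and_eq_true, decide_eq_true_eq, beq_iff_eq, List.all_eq_true, List.mem_finRange, true_imp_iff,
    bne_iff_ne, List.mem_range] at h'
  obtain ⟨⟨⟨⟨⟨h3, h4⟩, h5⟩, h6⟩, h7⟩, h8⟩ := h'
  have hw : N.Sg 1 := fun i _ => by rw [h4, one_mul, mul_one]
  rw [h3] at h1 h2 ⊢
  have h9 : ∀ L, N.Rp 1 (aeval (cas c4 (sB 15)) (pl L) y) (apM N.M L Z) := by
    intro L
    induction L with
    | nil => simpa [pl, apM] using hZ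
    | cons c L ih =>
      intro j hj
      have e1 := fun t => val h hw (h3 ▸ inv_aeval h2 (pl L)) ih (L := t ++ N.R.getD j []) (h3 ▸ inB_top _)
      simp only [el_append, mul_assoc] at e1
      rw [show pl (c :: L) = (X - C (c : ℂ)) * pl L from rfl, map_mul, map_sub, aeval_X, aeval_C,
        Algebra.algebraMap_eq_smul_one, Module.End.mul_apply, LinearMap.sub_apply, Pi.sub_apply, cas_apply, sum_rf,
        show apM N.M (c :: L) Z = axpy (-c) (apM N.M L Z) (mv N.M (apM N.M L Z)) from rfl, getD_axpy, getD_mv]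
      simp only [e1, LinearMap.smul_apply, Module.End.one_apply, Pi.smul_apply, ih j hj, smul_eq_mul]
      have e2 := sum_dot RL (fun _ => 1) fun t => (apM N.M L Z).getD (N.κ (t ++ N.R.getD j [])) 0
      simp only [Int.cast_one, one_mul] at e2
      rw [e2]
      have e3 : N.M.getD j [] = cnt N.R.length (RL.map fun _ => 1) (RL.map fun t => N.κ (t ++ N.R.getD j [])) := by
        rw [h6, List.getD_eq_getElem _ _ (by simpa using hj), List.getElem_map, List.getD_eq_getElem _ _ hj]
      rw [e3, dotL_cnt _ _ (length_apM (by rw [h6]; simp) e L), List.map_map]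
      push_cast
      rw [neg_mul, neg_add_eq_sub]
      rfl
  have h10 : Lagrange.nodal (S.map fun c : ℤ => (c : ℂ)).toFinset id = pl S := by
    rw [Lagrange.nodal, List.prod_toFinset _ (h5.map Int.cast_injective), List.map_map]
    rfl
  have h11 : (r.2.2.2.2 : ℂ) ≠ 0 := Int.cast_ne_zero.2 (h8 r hr).1
  refine ⟨_, h1.poly aut_one min_one (sB_top ▸ Node.top aut_one) (S.map fun c : ℤ => (c : ℂ)).toFinset (fun x hx => ?_)
    (C (r.2.2.2.2 : ℂ)⁻¹ * pl r.2.2.2.1) fun a ha => ?_, inv_aeval h2 _, fun j hj => ?_⟩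
  · obtain ⟨L, -, rfl⟩ := exists_el x
    have e1 := (exists_cj h (L := L) (h3 ▸ inB_top _)).1
    rw [h10, val h hw (h3 ▸ inv_aeval h2 (pl S)) (h9 S) (h3 ▸ inB_top _), ← one_mul (List.getD _ _ _), ← dotL_un e1,
      ← dotL_apT, dotL_zero (by simpa using h7 _ e1), Int.cast_zero]
  · obtain ⟨a, ha', rfl⟩ := List.mem_map.1 (List.mem_toFinset.1 ha)
    obtain ⟨n, hn⟩ := Int.dvd_of_emod_eq_zero ((h8 r hr).2 a ha')
    refine ⟨n, ?_⟩
    have e1 : (pl r.2.2.2.1).eval (a : ℂ) = ((r.2.2.2.1.map (a - ·)).prod : ℤ) := by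
      rw [pl, eval_list_prod, Int.cast_list_prod, List.map_map, List.map_map]
      exact congrArg _ (List.map_congr_left fun c _ => by simp)
    rw [eval_mul, eval_C, e1, hn, Int.cast_mul, inv_mul_cancel_left₀ h11]
  · rw [← h9 _ j hj, map_mul, aeval_C, Algebra.algebraMap_eq_smul_one, smul_mul_assoc, one_mul]
    exact mul_inv_cancel_left₀ h11 _

end Nd

end Cfsg.Agent.LV.F4
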