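import Cfsg.Agent.LV.F4.Lin
import Cfsg.Agent.LV.T.Use
import Cfsg.Agent.KZ.McX.WF4

/-!
# LV, `F₄`: the Weyl group in the kernel (helper84)

`el L` the element of a word, `ky L` its code, `el_eq_iff`; `sB b` the set with the bits `b`, `EB b` the elements of the
parabolic subgroup, `sum_WJ`, `card_WJ`; `RL` the reflections, `sum_rf`.
-/

set_option autoImplicit false
set_option linter.unusedSectionVars false

namespace Cfsg.Agent.LV.F4

open CoxeterSystem Cfsg Cfsg.Lie Cfsg.Agent.KZ.DatX Cfsg.Agent.KZ.McX Cfsg.Agent.LV.T Cfsg.Agent.Tits.Core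
  Cfsg.Agent.Tits.Exchange Matrix

/-- the Weyl group -/
abbrev W4 : Type := CoxeterMatrix.F₄.Group

/-- the Coxeter system -/
noncomputable abbrev c4 : CoxeterSystem CoxeterMatrix.F₄ W4 := CoxeterMatrix.F₄.toCoxeterSystem

/-- words -/
abbrev Wd : Type := List (Fin 4)

/-- the element of a word -/
noncomputable def el (L : Wd) : W4 := c4.wordProd L

theorem el_nil : el [] = 1 := c4.wordProd_nil

theorem el_append (L L' : Wd) : el (L ++ L') = el L * el L' := c4.wordProd_append L L'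

theorem el_cons (i : Fin 4) (L : Wd) : el (i :: L) = c4.simple i * el L := c4.wordProd_cons i L

theorem el_one (i : Fin 4) : el [i] = c4.simple i := c4.wordProd_singleton i

theorem el_reverse (L : Wd) : el L.reverse = (el L)⁻¹ := c4.wordProd_reverse L

theorem liftable : CoxeterMatrix.F₄.IsLiftable (sM chevF4 4) := by
  unfold CoxeterMatrix.IsLiftable
  decide +kernel

/-- the reflection representation -/
noncomputable def ph : W4 →* Matrix (Fin 4) (Fin 4) ℤ := c4.lift ⟨_, liftable⟩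

theorem ph_el (L : Wd) : ph (el L) = (L.map (sM chevF4 4)).prod := by
  induction L with
  | nil => rw [el_nil, map_one]; rfl
  | cons i L ih => rw [el_cons, map_mul, ih, ph, c4.lift_apply_simple]; rfl

theorem app_el (L : Wd) : app rowsF4 L [1, 1, 1, 1] = List.ofFn (ph (el L) *ᵥ ![1, 1, 1, 1]) := by
  rw [ph_el]
  exact app_ofFn isRows_F4 L ![1, 1, 1, 1]

theorem finite_W4 : Finite W4 := Nat.finite_of_card_ne_zero (by rw [card_W_F4]; decide)

theorem nodup_el : (wordsF4.map el).Nodup :=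
  List.Nodup.of_map (fun w => keyL (List.ofFn (ph w *ᵥ ![1, 1, 1, 1]))) (by
    rw [List.map_map]
    exact (List.map_congr_left fun L _ => congrArg keyL (app_el L) : _ = _) ▸ nodup_F4)

theorem exists_el (w : W4) : ∃ L ∈ wordsF4, el L = w := by
  classical
  have := finite_W4
  have := Fintype.ofFinite W4
  have h2 := Finset.eq_univ_of_card _ ((List.toFinset_card_of_nodup nodup_el).trans (by
    rw [List.length_map, length_F4, ← card_W_F4, Nat.card_eq_fintype_card]))
  exact List.mem_map.1 (List.mem_toFinset.1 (h2 ▸ Finset.mem_univ w))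

/-- a simple reflection acting on the codes -/
noncomputable def sN (i : Fin 4) (n : ℕ) : ℕ :=
  Nat.rec (Nat.sub (Nat.add n (Nat.mul (Nat.mod n 23) 21)) 231)
    (fun m _ => Nat.rec (Nat.sub (Nat.add n (Nat.mul (Nat.mod (Nat.div n 23) 23) 1013)) 11143)
      (fun m _ => Nat.rec (Nat.sub (Nat.add n (Nat.mul (Nat.mod (Nat.div n 529) 23) 11132)) 122452)
        (fun _ _ => Nat.sub (Nat.add n 261855) (Nat.mul (Nat.div n 12167) 23805)) m) m) i.1

/-- a word acting on the codes -/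
noncomputable def kA (L : Wd) (n : ℕ) : ℕ := List.rec n (fun i _ ih => sN i ih) L

/-- the code of a word -/
noncomputable def ky (L : Wd) : ℕ := kA L 152640

theorem sN_spec : ∀ L ∈ wordsF4, ∀ i : Fin 4,
    sN i (keyL (app rowsF4 L [1, 1, 1, 1])) = keyL (refL rowsF4 i (app rowsF4 L [1, 1, 1, 1])) := by decide +kernel

theorem ky_eq (L : Wd) : ky L = keyL (app rowsF4 L [1, 1, 1, 1]) := by
  induction L with
  | nil => decide +kernel
  | cons i L ih =>
    obtain ⟨L', h, e⟩ := exists_el (el L)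
    have h1 : app rowsF4 L [1, 1, 1, 1] = app rowsF4 L' [1, 1, 1, 1] := by rw [app_el, app_el, e]
    show sN i (ky L) = keyL (refL rowsF4 i (app rowsF4 L [1, 1, 1, 1]))
    rw [ih, h1, sN_spec L' h]

theorem el_eq_iff {L L' : Wd} : el L = el L' ↔ ky L = ky L' := by
  have h0 : ∀ {L L' : Wd}, el L = el L' → ky L = ky L' := fun h => by rw [ky_eq, ky_eq, app_el, app_el, h]
  refine ⟨h0, fun h => ?_⟩
  obtain ⟨M, h1, e⟩ := exists_el (el L)
  obtain ⟨M', h2, e'⟩ := exists_el (el L')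
  rw [← e, ← e', List.inj_on_of_nodup_map nodup_F4 h1 h2 (by
    rw [← ky_eq, ← ky_eq, h0 e, h0 e', h])]

/-! ### parabolic subgroups -/

/-- the set with the given bits -/
def sB (b : ℕ) : Set (Fin 4) := {i | b.testBit i = true}

/-- the letters lie in the set -/
def inB (b : ℕ) (L : Wd) : Bool := L.all fun i => b.testBit i

/-- the elements of a parabolic subgroup -/
def EB (b : ℕ) : List Wd := wordsF4.filter (inB b)

theorem exists_sB (K : Set (Fin 4)) : ∃ b < 16, K = sB b := by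
  classical
  have h : ∀ f : Fin 4 → Bool, ∃ b < 16, ∀ i : Fin 4, f i = Nat.testBit b i := by decide +kernel
  obtain ⟨b, h1, h2⟩ := h fun i => decide (i ∈ K)
  exact ⟨b, h1, Set.ext fun i => by rw [sB, Set.mem_ofPred_eq, ← h2, decide_eq_true_iff]⟩

theorem sB_top : sB 15 = Set.univ := Set.eq_univ_of_forall (show ∀ i : Fin 4, Nat.testBit 15 i = true by decide)

theorem el_mem {b : ℕ} {L : Wd} (h : inB b L = true) : el L ∈ WJ c4 (sB b) :=
  wordProd_mem_WJ c4 fun i hi => List.all_eq_true.1 h i hi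

theorem inB_append {b : ℕ} {L L' : Wd} (h : inB b L = true) (h' : inB b L' = true) : inB b (L ++ L') = true := by
  rw [inB, List.all_append, Bool.and_eq_true]
  exact ⟨h, h'⟩

theorem inB_top (L : Wd) : inB 15 L = true :=
  List.all_eq_true.2 fun i _ => (show ∀ i : Fin 4, Nat.testBit 15 i = true by decide) i

theorem EB_closed : ∀ b < 15, [] ∈ EB b ∧ ∀ L ∈ EB b, ∀ i : Fin 4, b.testBit i = true → ky (i :: L) ∈ (EB b).map ky := by
  decide +kernel

theorem exists_EB {b : ℕ} (hb : b < 16) {x : W4} (hx : x ∈ WJ c4 (sB b)) : ∃ L ∈ EB b, el L = x := by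
  rcases (by omega : b < 15 ∨ b = 15) with h | rfl
  · obtain ⟨ω, h1, rfl⟩ := exists_word_of_mem_WJ c4 hx
    clear hx
    induction ω with
    | nil => exact ⟨[], (EB_closed b h).1, rfl⟩
    | cons i ω ih =>
      obtain ⟨L, h2, h3⟩ := ih fun j hj => h1 j (List.mem_cons_of_mem _ hj)
      obtain ⟨L', h4, h5⟩ := List.mem_map.1 ((EB_closed b h).2 L h2 i (h1 i List.mem_cons_self))
      exact ⟨L', h4, by rw [el_eq_iff.2 h5, el_cons, h3, wordProd_cons]⟩
  · obtain ⟨L, h1, h2⟩ := exists_el x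
    exact ⟨L, List.mem_filter.2 ⟨h1, inB_top L⟩, h2⟩

theorem inB_of_mem {b : ℕ} {L : Wd} (h : L ∈ EB b) : inB b L = true := (List.mem_filter.1 h).2

theorem sum_WJ {b : ℕ} (hb : b < 16) [Fintype (WJ c4 (sB b))] {A : Type} [AddCommMonoid A] (g : W4 → A) :
    ∑ x : WJ c4 (sB b), g x = ((EB b).map fun L => g (el L)).sum := by
  classical
  have h1 : ((EB b).map el).Nodup := nodup_el.sublist (List.filter_sublist.map _)
  rw [← Finset.sum_subtype ((EB b).map el).toFinset (fun x => ?_) g, List.sum_toFinset _ h1, List.map_map]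
  · rfl
  · rw [List.mem_toFinset, List.mem_map]
    exact ⟨fun ⟨L, h2, e⟩ => e ▸ el_mem (inB_of_mem h2), exists_EB hb⟩

theorem card_WJ {b : ℕ} (hb : b < 16) : Nat.card (WJ c4 (sB b)) = (EB b).length := by
  have := finite_W4
  have := Fintype.ofFinite (WJ c4 (sB b))
  simpa using sum_WJ hb fun _ => (1 : ℕ)

/-! ### reflections -/

/-- the reflections -/
def RL : List Wd :=
  [([], 0), ([], 1), ([], 2), ([], 3), ([1], 0), ([2], 1), ([1], 2), ([3], 2), ([2, 1], 0), ([3, 2], 1), ([0, 1], 2),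
    ([3, 1], 2), ([1, 2, 1], 0), ([3, 2, 1], 0), ([3, 0, 1], 2), ([2, 3, 1], 2), ([3, 1, 2, 1], 0), ([2, 3, 0, 1], 2),
    ([2, 3, 1, 2, 1], 0), ([1, 2, 3, 0, 1], 2), ([1, 2, 3, 1, 2, 1], 0), ([2, 1, 2, 3, 0, 1], 2),
    ([0, 1, 2, 3, 1, 2, 1], 0), ([3, 2, 1, 2, 3, 0, 1], 2)].map fun a : Wd × Fin 4 => a.1 ++ a.2 :: a.1.reverse

theorem RL_ck : (RL.map ky).Nodup ∧ ∀ i : Fin 4, [i] ∈ RL ∧ ∀ t ∈ RL, ky (i :: (t ++ [i])) ∈ RL.map ky := by decide +kernel

theorem sum_rf [Fintype W4] {A : Type} [AddCommMonoid A] (g : W4 → A) :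
    ∑ t ∈ rf c4 (sB 15), g t = (RL.map fun L => g (el L)).sum := by
  classical
  have h1 : (RL.map el).Nodup := List.Nodup.map_on
    (fun _ h _ h' e => List.inj_on_of_nodup_map RL_ck.1 h h' (el_eq_iff.1 e)) (List.Nodup.of_map _ RL_ck.1)
  rw [show rf c4 (sB 15) = (RL.map el).toFinset from Finset.ext fun t => ?_, List.sum_toFinset _ h1, List.map_map]
  · rfl
  rw [mem_rf, List.mem_toFinset, List.mem_map]
  refine ⟨?_, ?_⟩
  · rintro ⟨⟨w, i, rfl⟩, -⟩
    obtain ⟨L, rfl⟩ := c4.wordProd_surjective w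
    induction L with
    | nil => exact ⟨[i], (RL_ck.2 i).1, by simp [el_one]⟩
    | cons j L ih =>
      obtain ⟨t, h2, h3⟩ := ih
      obtain ⟨t', h4, h5⟩ := List.mem_map.1 ((RL_ck.2 j).2 t h2)
      refine ⟨t', h4, ?_⟩
      rw [el_eq_iff.2 h5, el_cons, el_append, el_one, h3, wordProd_cons, _root_.mul_inv_rev, c4.inv_simple]
      simp only [mul_assoc]
  · rintro ⟨L, h2, rfl⟩
    refine ⟨?_, el_mem (inB_top L)⟩
    obtain ⟨a, -, rfl⟩ := List.mem_map.1 h2
    exact ⟨el a.1, a.2, by rw [el_append, el_cons, el_reverse, mul_assoc]⟩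

end Cfsg.Agent.LV.F4
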